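import Cfsg.Prelude.Def_Exceptional
import Cfsg.Prelude.Def_Solvable
import Cfsg.Agent.SEmbed.Cosets
import Cfsg.Agent.SEmbed.Elementary
import Cfsg.Agent.AGroups.Basic
import Cfsg.Agent.Linear.Basic
import Cfsg.Agent.SuzukiU.Arith
import Cfsg.Agent.PLocal.Cores
import Cfsg.Agent.TwoGroups.IsolatedZStar

/-!
# The degree of a strongly embedded subgroup, given Bender's theorem for simple groups

`Hyp` is the statement of Bender's theorem for simple groups.  Granting it, a group of 2-rank at
least 2 with a strongly embedded subgroup acts on the cosets with degree one more than the order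
of a Sylow 2-subgroup.
-/

set_option autoImplicit false

namespace CfsgLib.BenderUse

open CfsgLib.SEmbed CfsgLib.Small

universe u

/-- Bender's theorem for simple groups. -/
def Hyp : Prop :=
  ∀ (G : Type u) [Group G] [Finite G] [IsSimpleGroup G], (∃ a b : G, a * b ≠ b * a) →
    ∀ H : Subgroup G, Cfsg.IsStronglyEmbedded H →
    (∃ (F : Type) (_ : Field F) (_ : Fintype F), CharP F 2 ∧ 4 ≤ Fintype.card F ∧
        Nonempty (G ≃* Matrix.ProjectiveSpecialLinearGroup (Fin 2) F)) ∨
      Cfsg.IsSuzuki G ∨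
      (∃ (F : Type) (_ : Field F) (_ : Fintype F) (q : ℕ), Fintype.card F = q ^ 2 ∧ Even q ∧
        4 ≤ q ∧ Nonempty (G ≃* Cfsg.PSU 3 F q))

/-- The numerical shape of the three families. -/
theorem order_shape {G : Type u} [Group G] [Finite G] [IsSimpleGroup G]
    (h : (∃ (F : Type) (_ : Field F) (_ : Fintype F), CharP F 2 ∧ 4 ≤ Fintype.card F ∧
        Nonempty (G ≃* Matrix.ProjectiveSpecialLinearGroup (Fin 2) F)) ∨
      Cfsg.IsSuzuki G ∨
      (∃ (F : Type) (_ : Field F) (_ : Fintype F) (q : ℕ), Fintype.card F = q ^ 2 ∧ Even q ∧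
        4 ≤ q ∧ Nonempty (G ≃* Cfsg.PSU 3 F q))) :
    ∃ e k d : ℕ, 0 < e ∧ Odd d ∧ Odd k ∧ k < 2 ^ e ∧
      d * Nat.card G = 2 ^ e * ((2 ^ e + 1) * k) := by
  have hoddpred : ∀ r : ℕ, 0 < r → Even r → Odd (r - 1) := fun r h0 hr => by
    obtain ⟨t, rfl⟩ := hr
    exact ⟨t - 1, by omega⟩
  rcases h with ⟨F, iF, iT, hc, h4, ⟨e⟩⟩ | ⟨-, m, hm, hcard⟩ | ⟨F, iF, iT, q, hF, hev, h4, ⟨e⟩⟩
  · haveI := hc
    obtain ⟨n, -, hn⟩ := FiniteField.card F 2
    have hev : Even (Fintype.card F) := hn ▸ (Nat.even_pow.2 ⟨even_two, n.2.ne'⟩)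
    refine ⟨n, Fintype.card F - 1, 1, n.2, odd_one, hoddpred _ (by omega) hev, by omega, ?_⟩
    rw [← hn, one_mul, Nat.card_congr e.toEquiv, CfsgLib.Linear.card_PSL_two_even hev]
    have : Fintype.card F ^ 2 - 1 = (Fintype.card F + 1) * (Fintype.card F - 1) := by
      simpa using Nat.sq_sub_sq (Fintype.card F) 1
    rw [this]
  · have h8 : 2 ≤ 2 ^ (2 * m + 1) := Nat.le_self_pow (by omega) 2
    refine ⟨(2 * m + 1) * 2, 2 ^ (2 * m + 1) - 1, 1, by omega, odd_one,
      hoddpred _ (by omega) (Nat.even_pow.2 ⟨even_two, by omega⟩), ?_, ?_⟩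
    · have : 2 ^ (2 * m + 1) ≤ 2 ^ ((2 * m + 1) * 2) :=
        Nat.pow_le_pow_right (by omega) (by omega)
      omega
    · rw [pow_mul, one_mul, hcard, mul_assoc]
  · have hp : IsPrimePow (Fintype.card F) := FiniteField.isPrimePow_card F
    obtain ⟨r, hr, hre⟩ : ∃ i, q = 2 ^ i ∧ 0 < i := by
      obtain ⟨p, n, hpp, hn, hpn⟩ := hp
      rw [hF] at hpn
      have hp2 : p = 2 := by
        have h2 : 2 ∣ p ^ n := hpn ▸ (dvd_pow (even_iff_two_dvd.1 hev) two_ne_zero)
        exact (((Nat.prime_dvd_prime_iff_eq Nat.prime_two hpp.nat_prime).1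
          (Nat.prime_two.dvd_of_dvd_pow h2))).symm
      subst hp2
      obtain ⟨i, -, hi⟩ := (Nat.dvd_prime_pow Nat.prime_two).1
        (hpn ▸ (dvd_pow_self q two_ne_zero) : q ∣ 2 ^ n)
      refine ⟨i, hi, Nat.pos_of_ne_zero ?_⟩
      rintro rfl
      simp at hi
      omega
    have hq2 : 16 ≤ q ^ 2 := by nlinarith
    refine ⟨r * 3, q ^ 2 - 1, Nat.gcd 3 (q + 1), by omega,
      (by decide : Odd 3).of_dvd_nat (Nat.gcd_dvd_left _ _),
      hoddpred _ (by omega) (Nat.even_pow.2 ⟨hev, by omega⟩), ?_, ?_⟩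
    · rw [pow_mul, ← hr]
      have : q ^ 2 ≤ q ^ 3 := Nat.pow_le_pow_right (by omega) (by omega)
      omega
    · rw [pow_mul, ← hr]
      have h := CfsgLib.SuzukiU.card_psu3 hF
      rw [← Nat.card_congr e.toEquiv] at h
      refine Nat.eq_of_mul_eq_mul_left (show 0 < q + 1 by omega) ?_
      linarith

/-- The only admissible degree. -/
theorem degree_arith {Q k d N m : ℕ} (hk : k < Q) (hk0 : 0 < k)
    (h : d * (N * m) = Q * ((Q + 1) * k)) (hN1 : 1 < N) (hmod : Q ∣ N - 1) : N = Q + 1 := by
  obtain ⟨t, ht⟩ := hmod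
  have hNe : N = Q * t + 1 := by omega
  have hcop : N.Coprime Q := by
    rw [hNe, Nat.coprime_comm]
    simp
  obtain ⟨c, hc⟩ : N ∣ (Q + 1) * k := hcop.dvd_of_dvd_mul_left ⟨d * m, by rw [← h]; ring⟩
  rcases Nat.eq_zero_or_pos t with rfl | htp
  · omega
  -- `(Q + 1) k = N c` gives `c ≡ k` modulo `Q`, so `c ≥ k`
  have hck : k ≤ c := by
    by_contra hlt
    push Not at hlt
    have e : Q * k + k = Q * (t * c) + c := by
      rw [hNe] at hc; linarith
    have h1 : (Q * k + k) % Q = (Q * (t * c) + c) % Q := by rw [e]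
    simp only [Nat.mul_add_mod] at h1
    rw [Nat.mod_eq_of_lt hk, Nat.mod_eq_of_lt (hlt.trans hk)] at h1
    omega
  have hle : N ≤ Q + 1 := by
    by_contra hlt
    push Not at hlt
    have : (Q + 1) * k < N * c :=
      (Nat.mul_lt_mul_of_pos_right hlt hk0).trans_le (Nat.mul_le_mul_left _ hck)
    omega
  have : Q * 1 ≤ Q * t := Nat.mul_le_mul_left Q htp
  omega

variable {G : Type u} [Group G] [Finite G]

/-- A normal subgroup of odd order lies in the odd core. -/
theorem le_oddCore {N : Subgroup G} [N.Normal] (h : Odd (Nat.card N)) : N ≤ Cfsg.oddCore G :=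
  CfsgLib.PLocal.le_pPrimeCore (Nat.coprime_two_right.2 h)

/-- A Sylow 2-subgroup in a strongly embedded subgroup is semiregular off the base point. -/
theorem card_dvd_index_sub_one {H : Subgroup G} (hH : Cfsg.IsStronglyEmbedded H) {S : Subgroup G}
    (hS : IsPGroup 2 S) (hSH : S ≤ H) : Nat.card S ∣ H.index - 1 := by
  haveI : Fact (Nat.Prime 2) := ⟨Nat.prime_two⟩
  have huf := uniqueFix hH
  have h := CfsgLib.AGroups.card_dvd_of_semiregular (H := S) (α := G ⧸ H) {((1 : G) : G ⧸ H)}
    (fun a ha s => by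
      rw [Set.mem_singleton_iff] at ha
      subst ha
      exact (smul_one_eq_iff H _).2 (hSH s.2))
    (fun a ha s hs => by
      by_contra hs1
      have hev : 2 ∣ orderOf (s : G) := by
        obtain ⟨k, hk⟩ := IsPGroup.iff_orderOf.1 hS s
        rcases k with _ | k
        · rw [pow_zero] at hk
          exact absurd (orderOf_eq_one_iff.1 hk) hs1
        · rw [Subgroup.orderOf_coe, hk]
          exact dvd_pow_self 2 (by omega)
      obtain ⟨c, hc⟩ := hev
      have hc0 : c ≠ 0 := by
        rintro rfl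
        exact (orderOf_pos (s : G)).ne' (by simpa using hc)
      have ho : orderOf ((s : G) ^ c) = 2 := by
        rw [orderOf_pow' _ hc0, hc, Nat.gcd_mul_left_left, Nat.mul_div_cancel _ (by omega)]
      refine ha (Set.mem_singleton_iff.2 (huf.unique _ ho _ _ ?_
        ((smul_one_eq_iff H _).2 (Subgroup.pow_mem _ (hSH s.2) c))))
      have : (s : G) ∈ MulAction.stabilizer G a := MulAction.mem_stabilizer_iff.2 hs
      exact MulAction.mem_stabilizer_iff.1 (Subgroup.pow_mem _ this c))
  rwa [Set.ncard_singleton, ← Subgroup.index_eq_card] at h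

/-- A strongly embedded subgroup contains a Sylow 2-subgroup. -/
theorem exists_sylow_le {H : Subgroup G} (hH : Cfsg.IsStronglyEmbedded H) :
    ∃ S : Sylow 2 G, (S : Subgroup G) ≤ H := by
  haveI : Fact (Nat.Prime 2) := ⟨Nat.prime_two⟩
  have huf := uniqueFix hH
  obtain ⟨S⟩ : Nonempty (Sylow 2 G) := inferInstance
  have h2 : 2 ∣ Nat.card (S : Subgroup G) := by
    have : 2 ∣ Nat.card G := (even_iff_two_dvd.1 hH.2.1).trans (Subgroup.card_subgroup_dvd_card H)
    rw [← (S : Subgroup G).card_mul_index] at this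
    exact ((Nat.prime_two.dvd_mul).1 this).resolve_right S.not_dvd_index
  haveI : Nontrivial (S : Subgroup G) :=
    Finite.one_lt_card_iff_nontrivial.1 (lt_of_lt_of_le Nat.one_lt_two (Nat.le_of_dvd Nat.card_pos h2))
  haveI := S.2.center_nontrivial
  obtain ⟨z, hz⟩ := exists_prime_orderOf_dvd_card' (G := Subgroup.center (S : Subgroup G)) 2 (by
    obtain ⟨k, hk⟩ := IsPGroup.iff_card.1 (S.2.to_subgroup (Subgroup.center (S : Subgroup G)))
    have := Finite.one_lt_card (α := Subgroup.center (S : Subgroup G))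
    rw [hk] at this ⊢
    rcases k with _ | k
    · simp at this
    · exact dvd_pow_self 2 (by omega))
  have ho : orderOf ((z : (S : Subgroup G)) : G) = 2 := by
    rw [Subgroup.orderOf_coe, Subgroup.orderOf_coe, hz]
  obtain ⟨x, hx⟩ := huf.exists_fix _ ho
  obtain ⟨g, hg⟩ := huf.transitive x ((1 : G) : G ⧸ H)
  refine ⟨g • S, fun a ha => ?_⟩
  rw [Sylow.smul_def, Sylow.pointwise_smul_def] at ha
  obtain ⟨s, hs, rfl⟩ := ha
  have hcomm : Commute s ((z : (S : Subgroup G)) : G) :=
    congrArg Subtype.val (Subgroup.mem_center_iff.1 z.2 ⟨s, hs⟩)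
  have hsx : s • x = x := commute_fix huf ho hcomm hx
  apply (smul_one_eq_iff H _).1
  show (g * s * g⁻¹) • _ = _
  rw [← hg, smul_smul, inv_mul_cancel_right, mul_smul, hsx]

/-- A strongly embedded subgroup stays strongly embedded in every subgroup it meets evenly and
does not contain. -/
theorem subgroupOf_isStronglyEmbedded {H K : Subgroup G} (hH : Cfsg.IsStronglyEmbedded H)
    (hK : ¬ K ≤ H) {t : G} (htK : t ∈ K) (htH : t ∈ H) (ht : orderOf t = 2) :
    Cfsg.IsStronglyEmbedded (H.subgroupOf K) := by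
  have hse := (isStronglyEmbedded_iff hH.1 hH.2.1).1 hH
  have hne : H.subgroupOf K ≠ ⊤ := fun he => hK (Subgroup.subgroupOf_eq_top.1 he)
  have hev : Even (Nat.card (H.subgroupOf K)) := by
    refine even_iff_two_dvd.2 ?_
    have : orderOf (⟨⟨t, htK⟩, htH⟩ : H.subgroupOf K) = 2 := by
      rw [← Subgroup.orderOf_coe, ← Subgroup.orderOf_coe]
      exact ht
    exact this ▸ orderOf_dvd_natCard _
  refine (isStronglyEmbedded_iff hne hev).2 fun s hs ho g hg => ?_
  rw [Subgroup.mem_subgroupOf] at hs hg ⊢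
  exact hse _ hs (by rw [Subgroup.orderOf_coe, ho]) _ (by simpa using hg)

/-- Strong embedding passes to the quotient by a normal subgroup of odd order inside. -/
theorem map_isStronglyEmbedded {H : Subgroup G} (hH : Cfsg.IsStronglyEmbedded H) (O : Subgroup G)
    [O.Normal] (hO : O ≤ H) (hodd : Odd (Nat.card O)) :
    Cfsg.IsStronglyEmbedded (H.map (QuotientGroup.mk' O)) := by
  set q := QuotientGroup.mk' O
  have hq : Function.Surjective q := QuotientGroup.mk'_surjective O
  have hcm : (H.map q).comap q = H := by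
    rw [Subgroup.comap_map_eq, QuotientGroup.ker_mk', sup_eq_left.2 hO]
  refine ⟨fun he => hH.1 (by rw [← hcm, he, Subgroup.comap_top]), ?_, fun g hg => ?_⟩
  · have := Subgroup.card_mul_index (O.subgroupOf H)
    have he : Nat.card H = Nat.card O * Nat.card (H.map q) := by
      have h1 := (H.subgroupOf H).card_mul_index
      rw [← this]
      congr 1
      · exact Nat.card_congr (Subgroup.subgroupOfEquivOfLe hO).toEquiv
      · have hk : (q.comp H.subtype).ker = O.subgroupOf H := by
          ext x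
          simp [q, Subgroup.mem_subgroupOf, MonoidHom.mem_ker]
        rw [← hk, Subgroup.index_ker, MonoidHom.range_comp, Subgroup.range_subtype]
    have h2 := hH.2.1
    rw [he, Nat.even_mul] at h2
    exact h2.resolve_left (Nat.not_even_iff_odd.2 hodd)
  · obtain ⟨g, rfl⟩ := hq g
    have hgH : g ∉ H := fun h => hg ⟨g, h, rfl⟩
    refine (hH.2.2 g hgH).of_dvd_nat ?_
    refine dvd_trans ?_ ((H ⊓ H.map (MulAut.conj g).toMonoidHom).card_map_dvd q)
    refine Subgroup.card_dvd_of_le fun y hy => ?_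
    obtain ⟨h1, ⟨z, hz, rfl⟩⟩ := hy
    obtain ⟨w, hw, rfl⟩ := hz
    refine ⟨g * w * g⁻¹, ⟨?_, ⟨w, hw, by simp⟩⟩, by simp⟩
    rw [← hcm]
    simpa using h1

/-- With trivial odd core, the degree is one more than the 2-part of the order. -/
theorem index_of_oddCore_eq_bot (hB : Hyp.{u}) {H : Subgroup G} (hH : Cfsg.IsStronglyEmbedded H)
    (hO : Cfsg.oddCore G = ⊥) {S : Sylow 2 G} (hS : (S : Subgroup G) ≤ H) :
    H.index = Nat.card (S : Subgroup G) + 1 := by
  haveI : Fact (Nat.Prime 2) := ⟨Nat.prime_two⟩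
  have huf := uniqueFix hH
  haveI := nontrivial_cosets hH
  obtain ⟨t, htH, ht⟩ := exists_invol_mem hH.2.1
  set L : Subgroup G := Subgroup.normalClosure {t} with hLdef
  have htL : t ∈ L := Subgroup.subset_normalClosure rfl
  have hall : ∀ s : G, orderOf s = 2 → s ∈ L := fun s hs => by
    obtain ⟨g, rfl⟩ := isConj_iff.1 (isConj_invol huf ht hs)
    exact Subgroup.normalClosure_normal.conj_mem t htL g
  have hmin : ∀ M : Subgroup G, M.Normal → M ≠ ⊥ → L ≤ M := fun M hM hM1 => by
    rcases Nat.even_or_odd (Nat.card M) with he | ho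
    · obtain ⟨s, hsM, hs⟩ := exists_invol_mem he
      refine Subgroup.normalClosure_le_normal (Set.singleton_subset_iff.2 ?_)
      obtain ⟨g, rfl⟩ := isConj_iff.1 (isConj_invol huf hs ht)
      exact hM.conj_mem s hsM g
    · exact absurd (le_bot_iff.1 (hO ▸ le_oddCore ho)) hM1
  have hLH : ¬ L ≤ H := fun hle => by
    obtain ⟨x, hx⟩ := exists_ne ((1 : G) : G ⧸ H)
    obtain ⟨g, rfl⟩ := QuotientGroup.mk_surjective x
    refine hx (huf.unique t ht _ _ ?_ ((smul_one_eq_iff H t).2 htH))
    rw [smul_mk_eq_iff]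
    refine hle ?_
    simpa using (Subgroup.normalClosure_normal (s := {t})).conj_mem t htL g⁻¹
  have hHL := subgroupOf_isStronglyEmbedded hH hLH htL htH ht
  have huL := uniqueFix hHL
  haveI := nontrivial_cosets hHL
  haveI : Nontrivial L := ⟨⟨⟨t, htL⟩, 1, fun he => by
    rw [Subtype.ext_iff] at he
    rw [show t = 1 from he, orderOf_one] at ht
    omega⟩⟩
  haveI hsimple : IsSimpleGroup L := ⟨fun M hM => by
    rcases Nat.even_or_odd (Nat.card M) with he | ho
    · obtain ⟨s, hsM, hs⟩ := exists_invol_mem he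
      refine Or.inr (top_unique fun x _ => ?_)
      have hJ : ∀ r : L, orderOf r = 2 → r ∈ M := fun r hr => by
        obtain ⟨g, rfl⟩ := isConj_iff.1 (isConj_invol huL hs hr)
        exact hM.conj_mem s hsM g
      have : L ≤ M.map L.subtype := by
        have hn : (Subgroup.closure {r : G | orderOf r = 2}).Normal :=
          ⟨fun r hr g => by
            have hsub : {r : G | orderOf r = 2} ⊆ ((Subgroup.closure {r : G | orderOf r = 2}).comap
                (MulAut.conj g).toMonoidHom : Set G) := fun a ha => by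
              simp only [Subgroup.coe_comap, Set.mem_preimage, MulEquiv.coe_toMonoidHom,
                MulAut.conj_apply, SetLike.mem_coe]
              refine Subgroup.subset_closure ?_
              show orderOf (g * a * g⁻¹) = 2
              rw [orderOf_conj_eq]
              exact ha
            simpa using ((Subgroup.closure_le _).2 hsub hr)⟩
        refine (hmin _ hn fun he => ?_).trans ((Subgroup.closure_le _).2 fun r hr => ?_)
        · have : t ∈ Subgroup.closure {r : G | orderOf r = 2} := Subgroup.subset_closure ht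
          rw [he, Subgroup.mem_bot] at this
          rw [this, orderOf_one] at ht
          omega
        · exact ⟨⟨r, hall r hr⟩, hJ _ (by rw [← Subgroup.orderOf_coe]; exact hr), rfl⟩
      obtain ⟨y, hy, hyx⟩ := this x.2
      rwa [← Subtype.ext hyx]
    · haveI := hM
      have hc : Cfsg.oddCore L = ⊥ := by
        haveI : (Cfsg.oddCore L).Characteristic := CfsgLib.PLocal.pPrimeCoreCharacteristic 2 L
        rw [← (Subgroup.map_eq_bot_iff_of_injective _ L.subtype_injective), eq_bot_iff, ← hO]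
        refine le_oddCore ?_
        rw [Subgroup.card_map_of_injective L.subtype_injective]
        exact CfsgLib.TwoGroups.odd_card_oddCore
      exact Or.inl (le_bot_iff.1 (hc ▸ le_oddCore ho))⟩
  have hnc : ∃ a b : L, a * b ≠ b * a := by
    by_contra hc
    push Not at hc
    -- an abelian `L` would fix every point through the involution `t`
    refine hLH fun x hx => (smul_one_eq_iff H x).1 (commute_fix huf ht ?_
      ((smul_one_eq_iff H t).2 htH))
    exact congrArg Subtype.val (hc ⟨x, hx⟩ ⟨t, htL⟩)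
  have htrans : (H.subgroupOf L).index = H.index := by
    have hsurj : Function.Surjective
        (fun l : L => ((l : G) : G ⧸ H)) := fun x => by
      obtain ⟨g, rfl⟩ := QuotientGroup.mk_surjective x
      by_cases hg : ((g : G) : G ⧸ H) = ((1 : G) : G ⧸ H)
      · exact ⟨1, by simp [hg]⟩
      obtain ⟨r, hr, hrg⟩ := huf.exists_inv ((g : G) : G ⧸ H)
      obtain ⟨i, hi, -⟩ := exists_interchange huf ht hr ((smul_one_eq_iff H t).2 htH) hrg
        (Ne.symm hg)
      exact ⟨⟨i, hall i hi.1⟩, by simpa [smul_mk_one] using hi.2⟩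
    rw [Subgroup.index_eq_card, Subgroup.index_eq_card]
    refine Nat.card_eq_of_bijective (Quotient.lift (fun l : L => ((l : G) : G ⧸ H))
      (fun a b hab => ?_)) ⟨?_, fun x => ?_⟩
    · rw [QuotientGroup.eq]
      have := QuotientGroup.leftRel_apply.1 hab
      simpa [Subgroup.mem_subgroupOf] using this
    · intro x y hxy
      obtain ⟨a, rfl⟩ := QuotientGroup.mk_surjective x
      obtain ⟨b, rfl⟩ := QuotientGroup.mk_surjective y
      refine QuotientGroup.eq.2 ?_
      rw [Subgroup.mem_subgroupOf]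
      simpa using QuotientGroup.eq.1 hxy
    · obtain ⟨l, hl⟩ := hsurj x
      exact ⟨(l : L ⧸ H.subgroupOf L), hl⟩
  -- the simple group
  obtain ⟨e, k, d, he, hd, hk', hk, hcard⟩ := order_shape (hB L hnc _ hHL)
  obtain ⟨SL, hSL⟩ := exists_sylow_le hHL
  have hSLd := card_dvd_index_sub_one hHL SL.2 hSL
  have hSd := card_dvd_index_sub_one hH S.2 hS
  have hN1 : 1 < H.index := by
    rw [Subgroup.index_eq_card]; exact Finite.one_lt_card
  have hSLQ : Nat.card (SL : Subgroup L) = 2 ^ e := by
    rw [SL.card_eq_multiplicity]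
    congr 1
    have h1 := congrArg (fun x => x.factorization 2) hcard
    have hd0 : d ≠ 0 := by rintro rfl; simp at hd
    have hk0 : k ≠ 0 := by rintro rfl; simp at hk'
    have hz : ∀ x : ℕ, Odd x → x.factorization 2 = 0 := fun x hx =>
      Nat.factorization_eq_zero_of_not_dvd (Nat.odd_iff.1 hx |> fun h => by omega)
    have hQ1 : Odd (2 ^ e + 1) := (Nat.even_pow.2 ⟨even_two, he.ne'⟩).add_one
    rw [Nat.factorization_mul hd0 Nat.card_pos.ne',
      Nat.factorization_mul (pow_ne_zero e two_ne_zero) (Nat.mul_ne_zero (Nat.succ_ne_zero _) hk0),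
      Nat.factorization_mul (Nat.succ_ne_zero _) hk0, Finsupp.add_apply, Finsupp.add_apply,
      Finsupp.add_apply, hz d hd, hz k hk', hz _ hQ1, Nat.prime_two.factorization_pow,
      Finsupp.single_eq_same] at h1
    omega
  have hLN : H.index * Nat.card (H.subgroupOf L) = Nat.card L := by
    rw [← htrans, mul_comm, Subgroup.card_mul_index]
  have hmain : H.index = 2 ^ e + 1 := by
    refine degree_arith (d := d) (m := Nat.card (H.subgroupOf L)) hk hk'.pos ?_ hN1 ?_
    · rw [hLN, hcard]
    · rw [← hSLQ, ← htrans]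
      exact hSLd
  -- the Sylow 2-subgroup of `G` is no larger
  have hle : Nat.card (S : Subgroup G) ≤ 2 ^ e := Nat.le_of_dvd (by positivity) (by
    simpa [hmain] using hSd)
  have hge : 2 ^ e ≤ Nat.card (S : Subgroup G) := by
    rw [← hSLQ]
    obtain ⟨g, hg⟩ := (SL.2.map L.subtype).exists_le_sylow
    calc Nat.card (SL : Subgroup L)
        = Nat.card ((SL : Subgroup L).map L.subtype) :=
          (Subgroup.card_map_of_injective L.subtype_injective).symm
      _ ≤ Nat.card (g : Subgroup G) := Nat.card_le_card_of_injective _ (Subgroup.inclusion_injective hg)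
      _ = Nat.card (S : Subgroup G) := by rw [Sylow.card_eq_multiplicity, Sylow.card_eq_multiplicity]
  omega

/-- In 2-rank at least 2 the odd core lies in a strongly embedded subgroup. -/
theorem oddCore_le {H : Subgroup G} (hH : Cfsg.IsStronglyEmbedded H) {V : Subgroup G}
    (hV : IsFour V) : Cfsg.oddCore G ≤ H := by
  have huf := uniqueFix hH
  obtain ⟨v, hvV, hv⟩ := hV.exists_invol
  obtain ⟨x, hx⟩ := huf.exists_fix v hv
  have hVx : V ≤ MulAction.stabilizer G x := fun w hw =>
    MulAction.mem_stabilizer_iff.2 (commute_fix huf hv (hV.commute hw hvV) hx)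
  have hY := le_stabilizer_of_four huf hV hVx CfsgLib.TwoGroups.odd_card_oddCore
    (by rw [Subgroup.normalizer_eq_top]; exact le_top)
  obtain ⟨g, hg⟩ := huf.transitive ((1 : G) : G ⧸ H) x
  intro o ho
  refine (smul_one_eq_iff H o).1 ?_
  have h1 := MulAction.mem_stabilizer_iff.1 (hY ((inferInstance : (Cfsg.oddCore G).Normal).conj_mem o ho g))
  rw [← hg, smul_smul, inv_mul_cancel_right, mul_smul, smul_left_cancel_iff] at h1
  exact h1

/-- In 2-rank at least 2 the degree is one more than the order of a Sylow 2-subgroup. -/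
theorem index_eq (hB : Hyp.{u}) {H : Subgroup G} (hH : Cfsg.IsStronglyEmbedded H) {V : Subgroup G}
    (hV : IsFour V) {S : Sylow 2 G} (hS : (S : Subgroup G) ≤ H) :
    H.index = Nat.card (S : Subgroup G) + 1 := by
  haveI : Fact (Nat.Prime 2) := ⟨Nat.prime_two⟩
  have hO := oddCore_le hH hV
  have hodd : Odd (Nat.card (Cfsg.oddCore G)) := CfsgLib.TwoGroups.odd_card_oddCore
  have hq : Function.Surjective (QuotientGroup.mk' (Cfsg.oddCore G)) := QuotientGroup.mk'_surjective _
  have hH' := map_isStronglyEmbedded hH _ hO hodd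
  obtain ⟨S', hS'⟩ : ∃ S' : Sylow 2 (G ⧸ Cfsg.oddCore G),
      (S' : Subgroup (G ⧸ Cfsg.oddCore G)) = (S : Subgroup G).map (QuotientGroup.mk' _) :=
    ⟨S.mapSurjective hq, Sylow.coe_mapSurjective hq S⟩
  have h := index_of_oddCore_eq_bot hB hH'
    (CfsgLib.PLocal.pPrimeCore_quotient_pPrimeCore_eq_bot 2 G) (S := S')
    (hS' ▸ Subgroup.map_mono hS)
  have hcard : Nat.card (S' : Subgroup (G ⧸ Cfsg.oddCore G)) = Nat.card (S : Subgroup G) := by
    rw [hS', show (S : Subgroup G).map (QuotientGroup.mk' (Cfsg.oddCore G)) =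
      ((QuotientGroup.mk' (Cfsg.oddCore G)).comp (S : Subgroup G).subtype).range by
        rw [MonoidHom.range_comp, Subgroup.range_subtype]]
    refine (Nat.card_congr (MonoidHom.ofInjective ?_).toEquiv).symm
    refine (injective_iff_map_eq_one _).2 fun x hx => Subtype.ext ?_
    have hxO : (x : G) ∈ Cfsg.oddCore G := by simpa using hx
    exact Subgroup.mem_bot.1 ((CfsgLib.PLocal.disjoint_of_isPGroup_of_coprime S.2
      (Nat.coprime_two_right.2 hodd)).le ⟨x.2, hxO⟩)
  rwa [hcard, ← Subgroup.index_comap_of_surjective _ hq, Subgroup.comap_map_eq,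
    QuotientGroup.ker_mk', sup_eq_left.2 hO] at h

end CfsgLib.BenderUse
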