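import Cfsg.Agent.BenderUse.Degree
import Cfsg.Agent.TwoGroupsQ.UniqueInvolution
import Cfsg.Agent.S0225

/-!
# Consequences of Bender's theorem for strongly embedded subgroups

Both statements are proved from `Hyp`, Bender's theorem for simple groups.
-/

set_option autoImplicit false

namespace CfsgLib.BenderUse

open CfsgLib.SEmbed CfsgLib.Small

universe u

variable {G : Type u} [Group G] [Finite G]

/-- Without four groups the Sylow 2-subgroups have a unique involution. -/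
theorem cyclic_or_quaternion (hV : ∀ V : Subgroup G, ¬ IsFour V) (S : Sylow 2 G) :
    IsCyclic S ∨ ∃ m : ℕ, 1 ≤ m ∧ Nonempty ((S : Subgroup G) ≃* QuaternionGroup (2 ^ m)) := by
  haveI : Fact (Nat.Prime 2) := ⟨Nat.prime_two⟩
  rcases subsingleton_or_nontrivial (S : Subgroup G) with h | h
  · exact Or.inl (isCyclic_of_subsingleton (α := (S : Subgroup G)))
  haveI := S.2.center_nontrivial
  obtain ⟨z, hz⟩ := exists_prime_orderOf_dvd_card' (G := Subgroup.center (S : Subgroup G)) 2 (by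
    obtain ⟨k, hk⟩ := IsPGroup.iff_card.1 (S.2.to_subgroup (Subgroup.center (S : Subgroup G)))
    have := Finite.one_lt_card (α := Subgroup.center (S : Subgroup G))
    rw [hk] at this ⊢
    rcases k with _ | k
    · simp at this
    · exact dvd_pow_self 2 (by omega))
  have ho : orderOf ((z : (S : Subgroup G)) : G) = 2 := by
    rw [Subgroup.orderOf_coe, Subgroup.orderOf_coe, hz]
  have key : ∀ x : (S : Subgroup G), x ^ 2 = 1 → x ≠ 1 → x = z := fun x h1 h2 => by
    by_contra hne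
    have hx : orderOf (x : G) = 2 := by
      rw [Subgroup.orderOf_coe]
      exact orderOf_eq_prime h1 h2
    exact hV _ (isFour_closure_pair hx ho (fun e => hne (Subtype.ext e))
      (congrArg Subtype.val (Subgroup.mem_center_iff.1 z.2 x)))
  rcases CfsgLib.TwoGroupsQ.isCyclic_or_quaternion S.2 (CfsgLib.TwoGroupsQ.hasUniqueOrderP_two
      fun x y hx hx1 hy hy1 => (key x hx hx1).trans (key y hy hy1).symm) with h | ⟨-, h⟩
  · exact Or.inl h
  · exact Or.inr h

/-- Without four groups, `G = O(G) H`. -/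
theorem oddCore_sup_eq_top {H : Subgroup G} (hH : Cfsg.IsStronglyEmbedded H)
    (hV : ∀ V : Subgroup G, ¬ IsFour V) : Cfsg.oddCore G ⊔ H = ⊤ := by
  have huf := uniqueFix hH
  obtain ⟨z, hz, N, hN, hodd, hc⟩ := Cfsg.Agent.S0225.result
    (even_iff_two_dvd.2 ((even_iff_two_dvd.1 hH.2.1).trans (Subgroup.card_subgroup_dvd_card H)))
    fun E hE => hV E ⟨hE.card_four, fun x hx => by
      haveI := hE
      exact congrArg Subtype.val (IsKleinFour.mul_self (⟨x, hx⟩ : E))⟩
  haveI := hN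
  obtain ⟨x, hx⟩ := huf.exists_fix z hz
  obtain ⟨k, hk⟩ := huf.transitive x ((1 : G) : G ⧸ H)
  obtain ⟨t, ht⟩ : ∃ t, t = k * z * k⁻¹ := ⟨_, rfl⟩
  have hto : orderOf t = 2 := by rw [ht, orderOf_conj_eq, hz]
  have htfix : t • ((1 : G) : G ⧸ H) = ((1 : G) : G ⧸ H) := by
    rw [ht, ← hk, smul_smul, inv_mul_cancel_right, mul_smul, hx]
  have htN : ∀ g : G, t * g * t⁻¹ * g⁻¹ ∈ N := fun g => by
    have h := hN.conj_mem _ (hc (k⁻¹ * g * k)) k
    rw [ht]
    simpa [mul_assoc] using h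
  rw [eq_top_iff]
  intro g _
  obtain ⟨c, hcdef⟩ : ∃ c, c = t * g * t⁻¹ * g⁻¹ := ⟨_, rfl⟩
  obtain ⟨m, hm⟩ := hodd
  have hcm : c ^ (2 * m + 1) = 1 := by
    rw [← hm]; exact congrArg Subtype.val (pow_card_eq_one' (x := (⟨c, hcdef ▸ htN g⟩ : N)))
  have htt : t * t = 1 := mul_self_of_orderOf_two hto
  have hti : t⁻¹ = t := inv_eq_of_mul_eq_one_right htt
  have h0 : t * c * t⁻¹ = c⁻¹ := by
    rw [hcdef, hti, mul_inv_rev, mul_inv_rev, mul_inv_rev, inv_inv, hti]
    calc t * (t * g * t * g⁻¹) * t = (t * t) * g * t * g⁻¹ * t := by group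
      _ = g * (t * (g⁻¹ * t)) := by rw [htt, one_mul]; group
  have h1 : t * (c ^ m)⁻¹ * t⁻¹ = c ^ m := by
    have h0' : t * c⁻¹ * t⁻¹ = c := by
      have := congrArg Inv.inv h0
      simpa [mul_assoc] using this
    rw [← inv_pow, ← conj_pow, h0']
  have hcomm : Commute ((c ^ m)⁻¹ * g) t := by
    symm
    show t * ((c ^ m)⁻¹ * g) = (c ^ m)⁻¹ * g * t
    calc t * ((c ^ m)⁻¹ * g) = t * (c ^ m)⁻¹ * t⁻¹ * (t * g * t⁻¹) * t := by group
      _ = c ^ m * (c * g) * t := by rw [h1, hcdef]; group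
      _ = (c ^ m)⁻¹ * (c ^ (2 * m + 1)) * g * t := by group
      _ = (c ^ m)⁻¹ * g * t := by rw [hcm, mul_one]
  have hmem : (c ^ m)⁻¹ * g ∈ H := (smul_one_eq_iff H _).1 (commute_fix huf hto hcomm htfix)
  have : g = c ^ m * ((c ^ m)⁻¹ * g) := by group
  rw [this]
  exact Subgroup.mul_mem_sup (le_oddCore ⟨m, hm⟩ (Subgroup.pow_mem _ (hcdef ▸ htN g) m)) hmem

/-- In 2-rank at least 2 a Sylow 2-subgroup of `H` is transitive off the base point. -/
theorem exists_sylow_transitive (hB : Hyp.{u}) {H : Subgroup G} (hH : Cfsg.IsStronglyEmbedded H)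
    {V : Subgroup G} (hV : IsFour V) :
    ∃ S : Sylow 2 G, (S : Subgroup G) ≤ H ∧ H.index = Nat.card (S : Subgroup G) + 1 ∧
      ∀ g₁ g₂ : G, g₁ ∉ H → g₂ ∉ H → ∃ s ∈ (S : Subgroup G), g₂⁻¹ * (s * g₁) ∈ H := by
  classical
  haveI : Fact (Nat.Prime 2) := ⟨Nat.prime_two⟩
  obtain ⟨S, hS⟩ := exists_sylow_le hH
  have hn := index_eq hB hH hV hS
  refine ⟨S, hS, hn, fun g₁ g₂ h₁ h₂ => ?_⟩
  have huf := uniqueFix hH
  let f : ↥(S : Subgroup G) → {x : G ⧸ H // x ≠ ((1 : G) : G ⧸ H)} := fun s =>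
    ⟨(((s : G) * g₁ : G) : G ⧸ H), fun he => h₁ (by
      have := inv_mem (QuotientGroup.eq.1 he.symm)
      simp only [inv_one, one_mul, inv_inv, mul_inv_rev] at this
      simpa using H.mul_mem (H.inv_mem (hS s.2)) (H.inv_mem this))⟩
  have hfree : ∀ s : (S : Subgroup G), ((s : G) * g₁ : G) • ((1 : G) : G ⧸ H) =
      g₁ • ((1 : G) : G ⧸ H) → s = 1 := fun s hs => by
    by_contra hs1
    rw [mul_smul] at hs
    obtain ⟨c, hc⟩ : 2 ∣ orderOf (s : G) := by
      obtain ⟨k, hk⟩ := IsPGroup.iff_orderOf.1 S.2 s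
      rcases k with _ | k
      · rw [pow_zero] at hk
        exact absurd (orderOf_eq_one_iff.1 hk) hs1
      · rw [Subgroup.orderOf_coe, hk]
        exact dvd_pow_self 2 (by omega)
    have hc0 : c ≠ 0 := by
      rintro rfl
      exact (orderOf_pos (s : G)).ne' (by simpa using hc)
    have ho : orderOf ((s : G) ^ c) = 2 := by
      rw [orderOf_pow' _ hc0, hc, Nat.gcd_mul_left_left, Nat.mul_div_cancel _ (by omega)]
    have he := huf.unique _ ho _ _
      (MulAction.mem_stabilizer_iff.1 (Subgroup.pow_mem _ (MulAction.mem_stabilizer_iff.2 hs) c))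
      ((smul_one_eq_iff H _).2 (Subgroup.pow_mem _ (hS s.2) c))
    exact h₁ ((smul_one_eq_iff H g₁).1 he)
  have hinj : Function.Injective f := fun a b hab => by
    have h := congrArg Subtype.val hab
    simp only [f] at h
    refine inv_mul_eq_one.1 (hfree (a⁻¹ * b) ?_)
    rw [smul_mk_one, smul_mk_one, Subgroup.coe_mul, Subgroup.coe_inv, mul_assoc,
      ← smul_mk_one H ((a : G)⁻¹ * ((b : G) * g₁)), mul_smul, smul_mk_one, ← h,
      ← smul_mk_one H ((a : G) * g₁), ← mul_smul, inv_mul_cancel_left, smul_mk_one]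
  have hcard : Nat.card (S : Subgroup G) = Nat.card {x : G ⧸ H // x ≠ ((1 : G) : G ⧸ H)} := by
    haveI := Fintype.ofFinite (G ⧸ H)
    rw [Subgroup.index_eq_card] at hn
    simp only [Nat.card_eq_fintype_card, Fintype.card_subtype_compl, Fintype.card_subtype_eq] at hn ⊢
    omega
  obtain ⟨s, hs⟩ := ((Nat.bijective_iff_injective_and_card f).2 ⟨hinj, hcard⟩).2
    ⟨((g₂ : G) : G ⧸ H), fun he => h₂ ((smul_one_eq_iff H g₂).1 (by rw [smul_mk_one, he]))⟩
  exact ⟨s, s.2, QuotientGroup.eq.1 (congrArg Subtype.val hs).symm⟩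

/-- S1220 from Bender's theorem. -/
theorem transitive_or_rankOne (hB : Hyp.{u}) (H : Subgroup G) (hH : Cfsg.IsStronglyEmbedded H) :
    (∀ g₁ g₂ : G, g₁ ∉ H → g₂ ∉ H → ∃ h ∈ H, g₂⁻¹ * (h * g₁) ∈ H) ∨
      ((∀ S : Sylow 2 G, IsCyclic S ∨
          ∃ m : ℕ, 1 ≤ m ∧ Nonempty ((S : Subgroup G) ≃* QuaternionGroup (2 ^ m))) ∧
        Cfsg.oddCore G ⊔ H = ⊤) := by
  by_cases hV : ∃ V : Subgroup G, IsFour V
  · obtain ⟨V, hV⟩ := hV
    obtain ⟨S, hS, -, h⟩ := exists_sylow_transitive hB hH hV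
    exact Or.inl fun g₁ g₂ h₁ h₂ => (h g₁ g₂ h₁ h₂).imp fun s hs => ⟨hS hs.1, hs.2⟩
  · push Not at hV
    exact Or.inr ⟨cyclic_or_quaternion hV, oddCore_sup_eq_top hH hV⟩

theorem mem_normalizer_sup {A B : Subgroup G} {g : G} (hA : g ∈ Subgroup.normalizer (A : Set G))
    (hB : g ∈ Subgroup.normalizer (B : Set G)) : g ∈ Subgroup.normalizer ((A ⊔ B : Subgroup G) : Set G) := by
  have key : ∀ K : Subgroup G, g ∈ Subgroup.normalizer (K : Set G) ↔
      K.map (MulAut.conj g).toMonoidHom = K := fun K => by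
    rw [Subgroup.mem_normalizer_iff_map_conj_eq]; rfl
  rw [key] at hA hB ⊢
  rw [Subgroup.map_sup, hA, hB]

/-- S1221 from Bender's theorem. -/
theorem oddCore_le_oddCore (hB : Hyp.{u}) (H : Subgroup G) (hH : Cfsg.IsStronglyEmbedded H) :
    (Cfsg.oddCore ↥H).map H.subtype ≤ Cfsg.oddCore G := by
  haveI : Fact (Nat.Prime 2) := ⟨Nat.prime_two⟩
  set Y := (Cfsg.oddCore ↥H).map H.subtype with hYdef
  have hYH : Y ≤ H := Subgroup.map_subtype_le _
  have hYodd : Odd (Nat.card Y) := by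
    rw [hYdef, Subgroup.card_map_of_injective H.subtype_injective]
    exact CfsgLib.TwoGroups.odd_card_oddCore
  have hHY : H ≤ Subgroup.normalizer (Y : Set G) := fun h hh => by
    rw [Subgroup.mem_normalizer_iff]
    intro y
    constructor
    · rintro ⟨w, hw, rfl⟩
      exact ⟨⟨h, hh⟩ * w * (⟨h, hh⟩ : H)⁻¹,
        (inferInstance : (Cfsg.oddCore ↥H).Normal).conj_mem w hw _, rfl⟩
    · rintro ⟨w, hw, he⟩
      refine ⟨(⟨h, hh⟩ : H)⁻¹ * w * ⟨h, hh⟩, ?_, ?_⟩
      · simpa using (inferInstance : (Cfsg.oddCore ↥H).Normal).conj_mem w hw (⟨h, hh⟩ : H)⁻¹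
      · simp only [map_mul, map_inv, Subgroup.coe_subtype] at he ⊢
        rw [he]; group
  by_cases hV : ∃ V : Subgroup G, IsFour V
  · obtain ⟨V, hV⟩ := hV
    obtain ⟨S, hS, hn, htr⟩ := exists_sylow_transitive hB hH hV
    have huf := uniqueFix hH
    -- a stabiliser in `H` of another point is a complement to `S`
    have hfix : ∀ g : G, g ∉ H → ∀ y ∈ Y, g⁻¹ * y * g ∈ H := by
      intro g hg
      set D : Subgroup G := H ⊓ H.map (MulAut.conj g).toMonoidHom with hD
      have hDodd : Odd (Nat.card D) := hH.2.2 g hg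
      have hDH : D ≤ H := inf_le_left
      have hprod : ∀ h ∈ H, ∃ s ∈ (S : Subgroup G), s⁻¹ * h ∈ D := fun h hh => by
        obtain ⟨s, hs, hsg⟩ := htr g (h * g) hg fun hc => hg (by
          simpa using H.mul_mem (H.inv_mem hh) hc)
        refine ⟨s, hs, H.mul_mem (H.inv_mem (hS hs)) hh, ?_⟩
        refine ⟨g⁻¹ * (s⁻¹ * h) * g, ?_, by simp [mul_assoc]⟩
        have h2 := H.inv_mem hsg
        simpa [mul_assoc] using h2
      have hindex : (D.subgroupOf H).index ∣ Nat.card (S : Subgroup G) := by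
        have hsurj : Function.Surjective (fun s : (S : Subgroup G) =>
            ((⟨s, hS s.2⟩ : H) : H ⧸ D.subgroupOf H)) := fun x => by
          obtain ⟨h, rfl⟩ := QuotientGroup.mk_surjective x
          obtain ⟨s, hs, hsd⟩ := hprod h h.2
          exact ⟨⟨s, hs⟩, QuotientGroup.eq.2 (by simpa [Subgroup.mem_subgroupOf] using hsd)⟩
        have hle := Nat.card_le_card_of_surjective _ hsurj
        rw [← Subgroup.index_eq_card] at hle
        -- `|H| = |D| [H : D]` and the 2-part of `|H|` is `|S|`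
        have hmul := (D.subgroupOf H).card_mul_index
        rw [Nat.card_congr (Subgroup.subgroupOfEquivOfLe hDH).toEquiv] at hmul
        have hdvd : Nat.card (S : Subgroup G) ∣ Nat.card D * (D.subgroupOf H).index :=
          hmul ▸ Subgroup.card_dvd_of_le hS
        obtain ⟨k, hk⟩ := IsPGroup.iff_card.1 S.2
        rw [hk] at hdvd hle ⊢
        have h3 : 2 ^ k ∣ (D.subgroupOf H).index :=
          ((Nat.coprime_two_left.2 hDodd).pow_left k).dvd_of_dvd_mul_left hdvd
        have := Nat.le_of_dvd (Nat.pos_of_ne_zero Subgroup.index_ne_zero_of_finite) h3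
        rw [le_antisymm hle this]
      intro y hy
      suffices y ∈ D by
        obtain ⟨-, ⟨w, hw, hwy⟩⟩ := this
        rw [← hwy]; simpa [mul_assoc] using hw
      have hE : Odd (Nat.card ↥(D ⊔ Y)) := by
        haveI : (Y.subgroupOf H).Normal :=
          (Subgroup.normal_subgroupOf_iff_le_normalizer hYH).2 hHY
        have h1 := CfsgLib.PLocal.card_sup_dvd_mul (D.subgroupOf H) (Y.subgroupOf H)
        rw [← Subgroup.subgroupOf_sup hDH hYH,
          Nat.card_congr (Subgroup.subgroupOfEquivOfLe (sup_le hDH hYH)).toEquiv,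
          Nat.card_congr (Subgroup.subgroupOfEquivOfLe hDH).toEquiv,
          Nat.card_congr (Subgroup.subgroupOfEquivOfLe hYH).toEquiv] at h1
        exact (hDodd.mul hYodd).of_dvd_nat h1
      have hrel : D.relIndex (D ⊔ Y) = 1 := by
        have h1 : D.relIndex (D ⊔ Y) ∣ Nat.card ↥(D ⊔ Y) := Subgroup.relIndex_dvd_card _ _
        have h2 : D.relIndex (D ⊔ Y) ∣ D.relIndex H :=
          ⟨_, (Subgroup.relIndex_mul_relIndex D (D ⊔ Y) H le_sup_left (sup_le hDH hYH)).symm⟩
        obtain ⟨k, hk⟩ := IsPGroup.iff_card.1 S.2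
        have h3 : D.relIndex (D ⊔ Y) ∣ 2 ^ k := hk ▸ h2.trans hindex
        exact Nat.eq_one_of_dvd_coprimes ((Nat.coprime_two_left.2 hE).pow_left k) h3 h1
      exact Subgroup.relIndex_eq_one.1 hrel (le_sup_right (a := D) hy)
    have hcore : Y ≤ H.normalCore := fun y hy g => by
      by_cases hg : g⁻¹ ∈ H
      · exact H.mul_mem (H.mul_mem (inv_mem_iff.1 hg) (hYH hy)) (H.inv_mem (inv_mem_iff.1 hg))
      · simpa using hfix g⁻¹ hg y hy
    refine hcore.trans (le_oddCore ?_)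
    by_contra he
    obtain ⟨s, hs, hso⟩ := exists_invol_mem (Nat.not_odd_iff_even.1 he)
    haveI := nontrivial_cosets hH
    obtain ⟨x, hx⟩ := exists_ne ((1 : G) : G ⧸ H)
    obtain ⟨g, rfl⟩ := QuotientGroup.mk_surjective x
    refine hx (huf.unique s hso _ _ ?_ ((smul_one_eq_iff H s).2 (Subgroup.normalCore_le H hs)))
    rw [smul_mk_eq_iff]
    simpa using hs g⁻¹
  · push Not at hV
    have htop := oddCore_sup_eq_top hH hV
    haveI : (Cfsg.oddCore G ⊔ Y).Normal := by
      refine Subgroup.normalizer_eq_top_iff.1 (top_unique ?_)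
      rw [← htop]
      refine sup_le (le_sup_left.trans Subgroup.le_normalizer) fun h hh => ?_
      have hn : h ∈ Subgroup.normalizer ((Cfsg.oddCore G : Subgroup G) : Set G) := by
        rw [Subgroup.normalizer_eq_top]; trivial
      exact CfsgLib.BenderUse.mem_normalizer_sup hn (hHY hh)
    refine (le_sup_right (a := Cfsg.oddCore G)).trans (le_oddCore ?_)
    refine ((CfsgLib.TwoGroups.odd_card_oddCore (G := G)).mul hYodd).of_dvd_nat ?_
    rw [sup_comm, mul_comm]
    exact CfsgLib.PLocal.card_sup_dvd_mul Y (Cfsg.oddCore G)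

end CfsgLib.BenderUse
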