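import Cfsg.Prelude.Def_CaseTheorems
import Cfsg.Prelude.Def_Involutions
import Cfsg.Agent.S0205
import Mathlib.GroupTheory.Sylow
import Mathlib.GroupTheory.Nilpotent

/-!
# One class of maximal 2-local subgroups gives a strongly embedded subgroup

Let `G` be a non-abelian finite simple group in which all maximal 2-local subgroups are
conjugate.  A Sylow 2-subgroup lies in exactly one maximal 2-local subgroup, and a largest
2-subgroup common to two different maximal 2-local subgroups cannot exist, since the normalizer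
of such a subgroup lies in a maximal 2-local subgroup with larger intersections with both.
-/

set_option autoImplicit false
set_option linter.style.haveILetI false

namespace CfsgLib.BenderUse.OneClass

variable {G : Type*} [Group G] [Finite G]

/-- All maximal 2-local subgroups are conjugate. -/
def OneClassHyp (G : Type*) [Group G] : Prop :=
  ∀ M M' : Subgroup G, Cfsg.IsMaximalTwoLocal M → Cfsg.IsMaximalTwoLocal M' →
    ∃ g : G, M' = M.map (MulAut.conj g).toMonoidHom

theorem exists_maximalTwoLocal {T : Subgroup G} (hT : IsPGroup 2 T) (hT1 : T ≠ ⊥) :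
    ∃ M : Subgroup G, Cfsg.IsMaximalTwoLocal M ∧ Subgroup.normalizer (T : Set G) ≤ M := by
  obtain ⟨M, hTM, hM⟩ := (Set.toFinite {M : Subgroup G | Cfsg.IsTwoLocal M}).exists_le_maximal
    (a := Subgroup.normalizer (T : Set G)) ⟨T, hT, hT1, rfl⟩
  exact ⟨M, ⟨hM.1, fun N hN hle => le_antisymm (hM.2 hN hle) hle⟩, hTM⟩

theorem lt_normalizer_inf_two {R P : Subgroup G} (hP : IsPGroup 2 P) (h : R < P) :
    R < Subgroup.normalizer (R : Set G) ⊓ P := by
  haveI : Fact (Nat.Prime 2) := ⟨Nat.prime_two⟩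
  haveI := hP.isNilpotent
  refine lt_of_le_of_ne (le_inf Subgroup.le_normalizer h.le) fun heq => ?_
  have hlt : R.subgroupOf P < ⊤ := by
    rw [lt_top_iff_ne_top]
    exact fun e => h.not_ge (Subgroup.subgroupOf_eq_top.1 e)
  refine (Group.normalizerCondition_of_isNilpotent (R.subgroupOf P) hlt).not_ge fun x hx => ?_
  have hxN : (x : G) ∈ Subgroup.normalizer (R : Set G) := by
    rw [Subgroup.mem_normalizer_iff]
    intro r
    constructor
    · intro hr
      have := (Subgroup.mem_normalizer_iff.1 hx ⟨r, h.le hr⟩).1 (Subgroup.mem_subgroupOf.2 hr)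
      simpa [Subgroup.mem_subgroupOf] using this
    · intro hr
      have hrP : r ∈ P := by
        have h1 := P.mul_mem (P.mul_mem (P.inv_mem x.2) (h.le hr)) x.2
        simpa [mul_assoc] using h1
      exact Subgroup.mem_subgroupOf.1
        ((Subgroup.mem_normalizer_iff.1 hx ⟨r, hrP⟩).2 (Subgroup.mem_subgroupOf.2 (by simpa using hr)))
  rw [Subgroup.mem_subgroupOf, heq]
  exact Subgroup.mem_inf.2 ⟨hxN, x.2⟩

/-- A non-abelian simple group has even order. -/
theorem two_dvd_card [IsSimpleGroup G] (hG : ¬ IsMulCommutative G) : 2 ∣ Nat.card G := by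
  by_contra h
  haveI := Cfsg.Agent.S0205.result (Nat.odd_iff.2 (Nat.two_dvd_ne_zero.1 h))
  exact hG ⟨⟨fun a b => IsSimpleGroup.comm_iff_isSolvable.2 inferInstance a b⟩⟩

theorem normalizer_ne_top [IsSimpleGroup G] (hG : ¬ IsMulCommutative G) {T : Subgroup G}
    (hT : IsPGroup 2 T) (hT1 : T ≠ ⊥) : Subgroup.normalizer (T : Set G) ≠ ⊤ := by
  haveI : Fact (Nat.Prime 2) := ⟨Nat.prime_two⟩
  intro h
  haveI := Subgroup.normalizer_eq_top_iff.1 h
  have htop := (inferInstance : T.Normal).eq_bot_or_eq_top.resolve_left hT1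
  subst htop
  haveI : Group.IsNilpotent G :=
    (IsPGroup.of_equiv hT Subgroup.topEquiv : IsPGroup 2 G).isNilpotent
  exact hG ⟨⟨fun a b => IsSimpleGroup.comm_iff_isSolvable.2 inferInstance a b⟩⟩

theorem conj_normalizer (T : Subgroup G) (g : G) :
    (Subgroup.normalizer (T : Set G)).map (MulAut.conj g).toMonoidHom =
      Subgroup.normalizer ((T.map (MulAut.conj g).toMonoidHom : Subgroup G) : Set G) := by
  rw [Subgroup.map_normalizer_eq_of_bijective]
  exact (MulAut.conj g).bijective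

theorem isTwoLocal_map {M : Subgroup G} (hM : Cfsg.IsTwoLocal M) (g : G) :
    Cfsg.IsTwoLocal (M.map (MulAut.conj g).toMonoidHom) := by
  obtain ⟨T, hT, hT1, rfl⟩ := hM
  refine ⟨_, hT.map (MulAut.conj g).toMonoidHom, ?_, conj_normalizer T g⟩
  rwa [Ne, Subgroup.map_eq_bot_iff_of_injective _ (MulAut.conj g).injective]

/-- The maximal 2-local subgroup containing a Sylow 2-subgroup `S`, with `N(S) ≤ M`. -/
theorem exists_unique_over_sylow [IsSimpleGroup G] (hG : ¬ IsMulCommutative G)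
    (h1 : OneClassHyp G) (S : Sylow 2 G) :
    ∃ M : Subgroup G, Cfsg.IsMaximalTwoLocal M ∧ (S : Subgroup G) ≤ M ∧
      (∀ g : G, M.map (MulAut.conj g).toMonoidHom = M → g ∈ M) ∧
      ∀ M' : Subgroup G, Cfsg.IsMaximalTwoLocal M' → (S : Subgroup G) ≤ M' → M' = M := by
  haveI : Fact (Nat.Prime 2) := ⟨Nat.prime_two⟩
  obtain ⟨M, hM, hSM⟩ := exists_maximalTwoLocal S.2 (S.ne_bot_of_dvd_card (two_dvd_card hG))
  have hSleM : (S : Subgroup G) ≤ M := Subgroup.le_normalizer.trans hSM
  -- two conjugates of `S` inside a subgroup are conjugate there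
  have key : ∀ (K : Subgroup G) (g : G), (S : Subgroup G) ≤ K →
      (S : Subgroup G).map (MulAut.conj g).toMonoidHom ≤ K → ∃ k ∈ K, k * g ∈ M := by
    intro K g hSK hgK
    have hgK' : ((g • S : Sylow 2 G) : Subgroup G) ≤ K := by
      rw [Sylow.coe_subgroup_smul]
      exact hgK
    obtain ⟨k, hk⟩ := MulAction.exists_smul_eq K ((g • S : Sylow 2 G).subtype hgK')
      (S.subtype hSK)
    rw [Sylow.smul_subtype] at hk
    refine ⟨k, k.2, hSM ?_⟩
    have h := Sylow.subtype_injective hk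
    rw [Subgroup.smul_def, smul_smul] at h
    exact Sylow.smul_eq_iff_mem_normalizer.1 h
  refine ⟨M, hM, hSleM, fun g hg => ?_, fun M' hM' hSM' => ?_⟩
  · obtain ⟨k, hk, hkg⟩ := key M g hSleM (le_trans (Subgroup.map_mono hSleM) hg.le)
    simpa using M.mul_mem (M.inv_mem hk) hkg
  · obtain ⟨g, rfl⟩ := h1 M M' hM hM'
    obtain ⟨k, hk, hkg⟩ := key _ g hSM' (Subgroup.map_mono hSleM)
    have h2 : ∀ x : G, x ∈ M.map (MulAut.conj g).toMonoidHom ↔ g⁻¹ * x * g ∈ M := fun x => by
      constructor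
      · rintro ⟨y, hy, rfl⟩
        simpa [mul_assoc] using hy
      · intro hx
        exact ⟨_, hx, by simp [mul_assoc]⟩
    have hgM : g ∈ M := by
      have h3 := (h2 k).1 hk
      have h4 := M.mul_mem hkg (M.inv_mem h3)
      simpa [mul_assoc] using h4
    ext x
    rw [h2]
    constructor
    · intro hx
      simpa [mul_assoc] using M.mul_mem (M.mul_mem hgM hx) (M.inv_mem hgM)
    · intro hx
      exact M.mul_mem (M.mul_mem (M.inv_mem hgM) hx) hgM

/-- Two different maximal 2-local subgroups meet in a group of odd order. -/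
theorem odd_inf [IsSimpleGroup G] (hG : ¬ IsMulCommutative G) (h1 : OneClassHyp G)
    {M₁ M₂ : Subgroup G} (hM₁ : Cfsg.IsMaximalTwoLocal M₁) (hM₂ : Cfsg.IsMaximalTwoLocal M₂)
    (hne : M₁ ≠ M₂) : Odd (Nat.card ↥(M₁ ⊓ M₂)) := by
  haveI : Fact (Nat.Prime 2) := ⟨Nat.prime_two⟩
  rw [← Nat.not_even_iff_odd]
  intro he
  let P : Set (Subgroup G × Subgroup G × Subgroup G) := {x |
    Cfsg.IsMaximalTwoLocal x.1 ∧ Cfsg.IsMaximalTwoLocal x.2.1 ∧ x.1 ≠ x.2.1 ∧
      IsPGroup 2 x.2.2 ∧ x.2.2 ≠ ⊥ ∧ x.2.2 ≤ x.1 ⊓ x.2.1}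
  have hne' : P.Nonempty := by
    obtain ⟨z, hz⟩ := exists_prime_orderOf_dvd_card' (G := ↥(M₁ ⊓ M₂)) 2 (even_iff_two_dvd.1 he)
    refine ⟨(M₁, M₂, Subgroup.zpowers (z : G)), hM₁, hM₂, hne, ?_, ?_, ?_⟩
    · exact IsPGroup.of_card (n := 1) (by rw [Nat.card_zpowers, Subgroup.orderOf_coe, hz, pow_one])
    · rw [Ne, Subgroup.zpowers_eq_bot]
      intro h
      have := Subgroup.orderOf_coe z
      rw [h, orderOf_one] at this
      omega
    · rw [Subgroup.zpowers_le]
      exact z.2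
  obtain ⟨⟨A, B, T⟩, ⟨hA, hB, hAB, hT, hT1, hTle⟩, hmax⟩ :=
    P.toFinite.exists_maximalFor (fun x => Nat.card x.2.2) P hne'
  -- a maximal 2-local over `N(T)` equals each of `A` and `B`
  obtain ⟨C, hC, hNC⟩ := exists_maximalTwoLocal hT hT1
  have key : ∀ D : Subgroup G, Cfsg.IsMaximalTwoLocal D → T ≤ D → C = D ∨
      ∃ S : Sylow 2 G, (S : Subgroup G) ≤ D ∧ (S : Subgroup G) = T := by
    intro D hD hTD
    obtain ⟨Q, hQ⟩ := (hT.of_equiv (Subgroup.subgroupOfEquivOfLe hTD).symm).exists_le_sylow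
    obtain ⟨S₀⟩ : Nonempty (Sylow 2 G) := inferInstance
    obtain ⟨M, hM, hS₀M, -, -⟩ := exists_unique_over_sylow hG h1 S₀
    obtain ⟨g, hg⟩ := h1 M D hM hD
    have hgS : ((g • S₀ : Sylow 2 G) : Subgroup G) ≤ D := by
      rw [Sylow.coe_subgroup_smul, hg]
      exact Subgroup.map_mono hS₀M
    have hcard : Nat.card ((Q : Subgroup D).map D.subtype) =
        2 ^ (Nat.card G).factorization 2 := by
      rw [Subgroup.card_map_of_injective D.subtype_injective, Q.card_eq_multiplicity,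
        ← ((g • S₀ : Sylow 2 G).subtype hgS).card_eq_multiplicity, Sylow.coe_subtype,
        Nat.card_congr (Subgroup.subgroupOfEquivOfLe hgS).toEquiv,
        (g • S₀ : Sylow 2 G).card_eq_multiplicity]
    let S : Sylow 2 G := Sylow.ofCard _ hcard
    have hTS : T ≤ (S : Subgroup G) := fun x hx =>
      ⟨⟨x, hTD hx⟩, hQ (Subgroup.mem_subgroupOf.2 hx), rfl⟩
    have hSD : (S : Subgroup G) ≤ D := by
      rintro x ⟨y, -, rfl⟩
      exact y.2
    rcases hTS.eq_or_lt with h | h
    · exact Or.inr ⟨S, hSD, h.symm⟩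
    refine Or.inl ?_
    by_contra hCD
    have hlt := lt_normalizer_inf_two S.2 h
    have hmem : (C, D, Subgroup.normalizer (T : Set G) ⊓ (S : Subgroup G)) ∈ P :=
      ⟨hC, hD, hCD, S.2.to_le inf_le_right, fun e => not_lt_bot (hlt.trans_eq e),
        le_inf (inf_le_left.trans hNC) (inf_le_right.trans hSD)⟩
    have hcl : Nat.card T < Nat.card ↥(Subgroup.normalizer (T : Set G) ⊓ (S : Subgroup G)) := by
      by_contra hc
      exact hlt.ne (Subgroup.eq_of_le_of_card_ge hlt.le (not_lt.1 hc))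
    exact (not_le.2 hcl) (hmax hmem hcl.le)
  have notSyl : ∀ S : Sylow 2 G, (S : Subgroup G) = T → False := fun S hS => by
    obtain ⟨M, -, -, -, huniq⟩ := exists_unique_over_sylow hG h1 S
    exact hAB ((huniq A hA (hS ▸ hTle.trans inf_le_left)).trans
      (huniq B hB (hS ▸ hTle.trans inf_le_right)).symm)
  rcases key A hA (hTle.trans inf_le_left) with hCA | ⟨S, -, hS⟩
  · rcases key B hB (hTle.trans inf_le_right) with hCB | ⟨S, -, hS⟩
    · exact hAB (hCA.symm.trans hCB)
    · exact notSyl S hS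
  · exact notSyl S hS

/-- A maximal 2-local subgroup is strongly embedded. -/
theorem exists_stronglyEmbedded [IsSimpleGroup G] (hG : ¬ IsMulCommutative G)
    (h1 : OneClassHyp G) : ∃ H : Subgroup G, Cfsg.IsStronglyEmbedded H := by
  haveI : Fact (Nat.Prime 2) := ⟨Nat.prime_two⟩
  obtain ⟨S⟩ : Nonempty (Sylow 2 G) := inferInstance
  obtain ⟨M, hM, hSM, hself, -⟩ := exists_unique_over_sylow hG h1 S
  refine ⟨M, ?_, ?_, fun g hg => ?_⟩
  · obtain ⟨T, hT, hT1, e⟩ := hM.1
    exact e ▸ normalizer_ne_top hG hT hT1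
  · exact even_iff_two_dvd.2 ((S.dvd_card_of_dvd_card (two_dvd_card hG)).trans
      (Subgroup.card_dvd_of_le hSM))
  · refine odd_inf hG h1 hM ⟨isTwoLocal_map hM.1 g, fun N hN hle => ?_⟩ fun e => hg (hself g e.symm)
    have h2 := hM.2 _ (isTwoLocal_map hN g⁻¹) (by
      intro x hx
      exact ⟨g * x * g⁻¹, hle ⟨x, hx, rfl⟩, by simp [mul_assoc]⟩)
    rw [← h2, Subgroup.map_map]
    convert (Subgroup.map_id N).symm using 2
    ext x
    simp [mul_assoc]

end CfsgLib.BenderUse.OneClass
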