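import Cfsg.Agent.BenderUse.Degree
import Cfsg.Agent.SEmbed.RankOneBridge
import Cfsg.Agent.SuzukiTheorem.Classification
import Cfsg.Agent.S0205

/-!
# Strongly embedded subgroups, given regular normal subgroups in simple groups

`SplitHyp` says that in a non-abelian simple group a strongly embedded subgroup has a normal
subgroup regular on the other cosets; by Suzuki's theorem this yields the three families, and the
structure of an arbitrary strongly embedded subgroup in 2-rank at least 2 follows.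
-/

set_option autoImplicit false
set_option linter.style.haveILetI false

namespace CfsgLib.BenderUse

open CfsgLib.SEmbed CfsgLib.Small

universe u

/-- A strongly embedded subgroup of a simple group has a normal subgroup regular off the base. -/
def SplitHyp : Prop :=
  ∀ (G : Type u) [Group G] [Finite G] [IsSimpleGroup G], (∃ a b : G, a * b ≠ b * a) →
    ∀ H : Subgroup G, Cfsg.IsStronglyEmbedded H →
    ∃ Q : Subgroup G, Q ≤ H ∧ (Q.subgroupOf H).Normal ∧
      (∀ g₁ g₂ : G, g₁ ∉ H → g₂ ∉ H → ∃ u ∈ Q, g₂⁻¹ * (u * g₁) ∈ H) ∧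
      ∀ g : G, g ∉ H → ∀ u ∈ Q, g⁻¹ * (u * g) ∈ H → u = 1

/-- The three families of Bender's theorem, up to isomorphism. -/
def Families (L : Type u) [Group L] : Prop :=
  (∃ (F : Type) (_ : Field F) (_ : Fintype F), (∃ n : ℕ, 2 ≤ n ∧ Fintype.card F = 2 ^ n) ∧
      Nonempty (L ≃* Matrix.ProjectiveSpecialLinearGroup (Fin 2) F)) ∨
    Cfsg.Lie.IsoSuzuki L ∨
    (∃ (F : Type) (_ : Field F) (_ : Fintype F) (n : ℕ), 2 ≤ n ∧ Fintype.card F = (2 ^ n) ^ 2 ∧
      Nonempty (L ≃* Cfsg.PSU 3 F (2 ^ n)))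

variable {G : Type u} [Group G] [Finite G]

/-- Bender's theorem follows from `SplitHyp`. -/
theorem hyp_of_split (hS : SplitHyp.{u}) : Hyp.{u} := by
  intro G _ _ _ hna H hH
  obtain ⟨Q, hQH, hQn, htr, hreg⟩ := hS G hna H hH
  exact classification_of_rankOne
    (fun _ _ _ _ _ _ _ _ _ hS h2 => CfsgLib.SuzukiThm.rank_one_classification hS h2)
    H hH Q hQH hQn htr hreg

/-- A simple group with a strongly embedded subgroup is in one of the three families. -/
theorem families_of_split (hS : SplitHyp.{u}) [IsSimpleGroup G] (hna : ∃ a b : G, a * b ≠ b * a)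
    {H : Subgroup G} (hH : Cfsg.IsStronglyEmbedded H) : Families G := by
  obtain ⟨Q, hQH, hQn, htr, hreg⟩ := hS G hna H hH
  haveI := faithfulSMul_cosets hH.1
  obtain ⟨t, hset⟩ := exists_rankOne_setup H hH Q hQH hQn htr hreg
  obtain ⟨L, hLn, hodd, hL⟩ :=
    CfsgLib.SuzukiThm.rank_one_classification hset (exists_commuting_invols hH)
  have hLtop : L = ⊤ := hLn.eq_bot_or_eq_top.resolve_left fun h => by
    rw [h, Subgroup.index_bot] at hodd
    exact Nat.not_even_iff_odd.2 hodd (hH.2.1.trans_dvd (Subgroup.card_subgroup_dvd_card H))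
  let eL : G ≃* L := Subgroup.topEquiv.symm.trans (MulEquiv.subgroupCongr hLtop.symm)
  rcases hL with ⟨F, iF, iT, hF, ⟨e⟩⟩ | ⟨F, iF, iT, m, hm, hF, ⟨e⟩⟩ |
      ⟨F, iF, iT, n, hn, hF, ⟨e⟩⟩
  · exact Or.inl ⟨F, iF, iT, hF, ⟨eL.trans e⟩⟩
  · exact Or.inr (Or.inl ⟨F, iF, iT, m, hm, hF, ⟨eL.trans e⟩⟩)
  · exact Or.inr (Or.inr ⟨F, iF, iT, n, hn, hF, ⟨eL.trans e⟩⟩)

/-- A subgroup regular on the other cosets has order one less than the index. -/
theorem card_regular_add_one {H Q : Subgroup G} (hH : H ≠ ⊤) (hQH : Q ≤ H)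
    (htr : ∀ g₁ g₂ : G, g₁ ∉ H → g₂ ∉ H → ∃ u ∈ Q, g₂⁻¹ * (u * g₁) ∈ H)
    (hreg : ∀ g : G, g ∉ H → ∀ u ∈ Q, g⁻¹ * (u * g) ∈ H → u = 1) :
    Nat.card Q + 1 = H.index := by
  classical
  obtain ⟨g₁, -, hg₁⟩ := SetLike.exists_of_lt (lt_top_iff_ne_top.2 hH)
  have hout : ∀ g : G, (g : G ⧸ H) ≠ ((1 : G) : G ⧸ H) ↔ g ∉ H := fun g => by
    rw [Ne, QuotientGroup.eq]; simp
  let f : Q → {x : G ⧸ H // x ≠ ((1 : G) : G ⧸ H)} := fun u =>
    ⟨(((u : G) * g₁ : G) : G ⧸ H), (hout _).2 fun hm =>
      hg₁ (by simpa using H.mul_mem (H.inv_mem (hQH u.2)) hm)⟩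
  have hbij : Function.Bijective f := by
    refine ⟨fun u v huv => ?_, fun x => ?_⟩
    · have h := QuotientGroup.eq.1 (congrArg Subtype.val huv)
      have h1 := hreg g₁ hg₁ ((u : G)⁻¹ * v) (Q.mul_mem (Q.inv_mem u.2) v.2)
        (by simpa [mul_assoc] using h)
      exact Subtype.ext (inv_mul_eq_one.1 h1)
    · obtain ⟨x, hx⟩ := x
      obtain ⟨g₂, rfl⟩ := QuotientGroup.mk_surjective x
      obtain ⟨u, hu, h⟩ := htr g₁ g₂ hg₁ ((hout _).1 hx)
      exact ⟨⟨u, hu⟩, Subtype.ext (QuotientGroup.eq.2 h).symm⟩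
  rw [Subgroup.index_eq_card, Nat.card_congr (Equiv.ofBijective f hbij)]
  haveI := Fintype.ofFinite (G ⧸ H)
  simp only [Nat.card_eq_fintype_card, Fintype.card_subtype_compl, Fintype.card_subtype_eq]
  have := Fintype.card_pos (α := G ⧸ H)
  omega

/-- A normal subgroup of odd index contains every element of 2-power order. -/
theorem mem_of_odd_index (N : Subgroup G) [N.Normal] (hN : Odd N.index) {x : G} {k : ℕ}
    (hx : x ^ 2 ^ k = 1) : x ∈ N := by
  rw [← QuotientGroup.eq_one_iff, ← orderOf_eq_one_iff]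
  have h1 : orderOf (x : G ⧸ N) ∣ 2 ^ k :=
    orderOf_dvd_of_pow_eq_one (by rw [← QuotientGroup.mk_pow, hx, QuotientGroup.mk_one])
  have h2 : orderOf (x : G ⧸ N) ∣ N.index := by
    rw [Subgroup.index_eq_card]; exact orderOf_dvd_natCard _
  exact Nat.dvd_one.1 ((Nat.Coprime.pow_left k (Nat.coprime_two_left.2 hN)).gcd_eq_one ▸
    Nat.dvd_gcd h1 h2)

/-- With trivial odd core there is a simple normal subgroup of odd index, still with a strongly
embedded subgroup of the same index. -/
theorem exists_simple_normal (hB : Hyp.{u}) {H : Subgroup G} (hH : Cfsg.IsStronglyEmbedded H)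
    (hO : Cfsg.oddCore G = ⊥) :
    ∃ L : Subgroup G, L.Normal ∧ Odd L.index ∧ IsSimpleGroup L ∧ (∃ a b : L, a * b ≠ b * a) ∧
      Cfsg.IsStronglyEmbedded (H.subgroupOf L) ∧ (H.subgroupOf L).index = H.index := by
  haveI : Fact (Nat.Prime 2) := ⟨Nat.prime_two⟩
  have huf := uniqueFix hH
  haveI := nontrivial_cosets hH
  obtain ⟨t, htH, ht⟩ := exists_invol_mem hH.2.1
  set L : Subgroup G := Subgroup.normalClosure {t} with hLdef
  have htL : t ∈ L := Subgroup.subset_normalClosure rfl
  have hall : ∀ s : G, orderOf s = 2 → s ∈ L := fun s hs => by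
    obtain ⟨g, rfl⟩ := isConj_iff.1 (isConj_invol huf ht hs)
    exact Subgroup.normalClosure_normal.conj_mem t htL g
  have hmin : ∀ M : Subgroup G, M.Normal → M ≠ ⊥ → L ≤ M := fun M hM hM1 => by
    rcases Nat.even_or_odd (Nat.card M) with he | ho
    · obtain ⟨s, hsM, hs⟩ := exists_invol_mem he
      refine Subgroup.normalClosure_le_normal (Set.singleton_subset_iff.2 ?_)
      obtain ⟨g, rfl⟩ := isConj_iff.1 (isConj_invol huf hs ht)
      exact hM.conj_mem s hsM g
    · exact absurd (le_bot_iff.1 (hO ▸ le_oddCore ho)) hM1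
  have hLH : ¬ L ≤ H := fun hle => by
    obtain ⟨x, hx⟩ := exists_ne ((1 : G) : G ⧸ H)
    obtain ⟨g, rfl⟩ := QuotientGroup.mk_surjective x
    refine hx (huf.unique t ht _ _ ?_ ((smul_one_eq_iff H t).2 htH))
    rw [smul_mk_eq_iff]
    refine hle ?_
    simpa using (Subgroup.normalClosure_normal (s := {t})).conj_mem t htL g⁻¹
  have hHL := subgroupOf_isStronglyEmbedded hH hLH htL htH ht
  have huL := uniqueFix hHL
  haveI := nontrivial_cosets hHL
  haveI : Nontrivial L := ⟨⟨⟨t, htL⟩, 1, fun he => by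
    rw [Subtype.ext_iff] at he
    rw [show t = 1 from he, orderOf_one] at ht
    omega⟩⟩
  haveI hsimple : IsSimpleGroup L := ⟨fun M hM => by
    rcases Nat.even_or_odd (Nat.card M) with he | ho
    · obtain ⟨s, hsM, hs⟩ := exists_invol_mem he
      refine Or.inr (top_unique fun x _ => ?_)
      have hJ : ∀ r : L, orderOf r = 2 → r ∈ M := fun r hr => by
        obtain ⟨g, rfl⟩ := isConj_iff.1 (isConj_invol huL hs hr)
        exact hM.conj_mem s hsM g
      have : L ≤ M.map L.subtype := by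
        have hn : (Subgroup.closure {r : G | orderOf r = 2}).Normal :=
          ⟨fun r hr g => by
            have hsub : {r : G | orderOf r = 2} ⊆ ((Subgroup.closure {r : G | orderOf r = 2}).comap
                (MulAut.conj g).toMonoidHom : Set G) := fun a ha => by
              simp only [Subgroup.coe_comap, Set.mem_preimage, MulEquiv.coe_toMonoidHom,
                MulAut.conj_apply, SetLike.mem_coe]
              refine Subgroup.subset_closure ?_
              show orderOf (g * a * g⁻¹) = 2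
              rw [orderOf_conj_eq]
              exact ha
            simpa using ((Subgroup.closure_le _).2 hsub hr)⟩
        refine (hmin _ hn fun he => ?_).trans ((Subgroup.closure_le _).2 fun r hr => ?_)
        · have : t ∈ Subgroup.closure {r : G | orderOf r = 2} := Subgroup.subset_closure ht
          rw [he, Subgroup.mem_bot] at this
          rw [this, orderOf_one] at ht
          omega
        · exact ⟨⟨r, hall r hr⟩, hJ _ (by rw [← Subgroup.orderOf_coe]; exact hr), rfl⟩
      obtain ⟨y, hy, hyx⟩ := this x.2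
      rwa [← Subtype.ext hyx]
    · haveI := hM
      have hc : Cfsg.oddCore L = ⊥ := by
        haveI : (Cfsg.oddCore L).Characteristic := CfsgLib.PLocal.pPrimeCoreCharacteristic 2 L
        rw [← (Subgroup.map_eq_bot_iff_of_injective _ L.subtype_injective), eq_bot_iff, ← hO]
        refine le_oddCore ?_
        rw [Subgroup.card_map_of_injective L.subtype_injective]
        exact CfsgLib.TwoGroups.odd_card_oddCore
      exact Or.inl (le_bot_iff.1 (hc ▸ le_oddCore ho))⟩
  have hnc : ∃ a b : L, a * b ≠ b * a := by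
    by_contra hc
    push Not at hc
    refine hLH fun x hx => (smul_one_eq_iff H x).1 (commute_fix huf ht ?_
      ((smul_one_eq_iff H t).2 htH))
    exact congrArg Subtype.val (hc ⟨x, hx⟩ ⟨t, htL⟩)
  have htrans : (H.subgroupOf L).index = H.index := by
    have hsurj : Function.Surjective
        (fun l : L => ((l : G) : G ⧸ H)) := fun x => by
      obtain ⟨g, rfl⟩ := QuotientGroup.mk_surjective x
      by_cases hg : ((g : G) : G ⧸ H) = ((1 : G) : G ⧸ H)
      · exact ⟨1, by simp [hg]⟩
      obtain ⟨r, hr, hrg⟩ := huf.exists_inv ((g : G) : G ⧸ H)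
      obtain ⟨i, hi, -⟩ := exists_interchange huf ht hr ((smul_one_eq_iff H t).2 htH) hrg
        (Ne.symm hg)
      exact ⟨⟨i, hall i hi.1⟩, by simpa [smul_mk_one] using hi.2⟩
    rw [Subgroup.index_eq_card, Subgroup.index_eq_card]
    refine Nat.card_eq_of_bijective (Quotient.lift (fun l : L => ((l : G) : G ⧸ H))
      (fun a b hab => ?_)) ⟨?_, fun x => ?_⟩
    · rw [QuotientGroup.eq]
      have := QuotientGroup.leftRel_apply.1 hab
      simpa [Subgroup.mem_subgroupOf] using this
    · intro x y hxy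
      obtain ⟨a, rfl⟩ := QuotientGroup.mk_surjective x
      obtain ⟨b, rfl⟩ := QuotientGroup.mk_surjective y
      refine QuotientGroup.eq.2 ?_
      rw [Subgroup.mem_subgroupOf]
      simpa using QuotientGroup.eq.1 hxy
    · obtain ⟨l, hl⟩ := hsurj x
      exact ⟨(l : L ⧸ H.subgroupOf L), hl⟩
  refine ⟨L, inferInstance, ?_, hsimple, hnc, hHL, htrans⟩
  have hOL : Cfsg.oddCore L = ⊥ := by
    rcases (inferInstance : (Cfsg.oddCore L).Normal).eq_bot_or_eq_top with h | h
    · exact h
    · exfalso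
      have hodd := CfsgLib.TwoGroups.odd_card_oddCore (G := L)
      rw [h, Subgroup.card_top] at hodd
      exact Nat.not_even_iff_odd.2 hodd (hHL.2.1.trans_dvd (Subgroup.card_subgroup_dvd_card _))
  obtain ⟨S, hS⟩ := exists_sylow_le hH
  obtain ⟨SL, hSL⟩ := exists_sylow_le hHL
  have e1 := index_of_oddCore_eq_bot hB hH hO hS
  have e2 := index_of_oddCore_eq_bot hB hHL hOL hSL
  rw [htrans] at e2
  have e3 : (Nat.card G).factorization 2 = (Nat.card L).factorization 2 := by
    have h : Nat.card (S : Subgroup G) = Nat.card (SL : Subgroup L) := by omega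
    rw [S.card_eq_multiplicity, SL.card_eq_multiplicity] at h
    exact Nat.pow_right_injective le_rfl h
  rw [← Subgroup.card_mul_index L, Nat.factorization_mul Nat.card_pos.ne'
    Subgroup.index_ne_zero_of_finite, Finsupp.add_apply] at e3
  have e4 : L.index.factorization 2 = 0 := by omega
  rw [← Nat.not_even_iff_odd]
  intro he
  have := Nat.prime_two.factorization_pos_of_dvd Subgroup.index_ne_zero_of_finite
    (even_iff_two_dvd.1 he)
  omega

/-- **The structure theorem**: with trivial odd core, the socle has odd index and is in the three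
families, and a Sylow 2-subgroup is normal in the strongly embedded subgroup. -/
theorem exists_sylow_normal (hS : SplitHyp.{u}) {H : Subgroup G}
    (hH : Cfsg.IsStronglyEmbedded H) (hO : Cfsg.oddCore G = ⊥) :
    ∃ L : Subgroup G, L.Normal ∧ Odd L.index ∧ IsSimpleGroup L ∧ Families L ∧
      ∃ S : Sylow 2 G, (S : Subgroup G) ≤ H ∧ ((S : Subgroup G).subgroupOf H).Normal := by
  haveI : Fact (Nat.Prime 2) := ⟨Nat.prime_two⟩
  have hB := hyp_of_split hS
  obtain ⟨L, hLn, hodd, hsimple, hnc, hHL, hidx⟩ := exists_simple_normal hB hH hO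
  haveI := hLn
  haveI := hsimple
  refine ⟨L, hLn, hodd, hsimple, families_of_split hS hnc hHL, ?_⟩
  obtain ⟨Q, hQM, hQn, htr, hreg⟩ := hS L hnc _ hHL
  obtain ⟨S₀, hS₀⟩ := exists_sylow_le hH
  have hcard : Nat.card Q = Nat.card (S₀ : Subgroup G) := by
    have h1 := card_regular_add_one hHL.1 hQM htr hreg
    rw [hidx, index_of_oddCore_eq_bot hB hH hO hS₀] at h1
    omega
  have hQcard : Nat.card (Q.map L.subtype) = 2 ^ (Nat.card G).factorization 2 := by
    rw [Subgroup.card_map_of_injective L.subtype_injective, hcard, S₀.card_eq_multiplicity]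
  refine ⟨Sylow.ofCard (Q.map L.subtype) hQcard, ?_, ?_⟩
  · rw [Sylow.coe_ofCard]
    rintro x ⟨y, hy, rfl⟩
    exact Subgroup.mem_subgroupOf.1 (hQM hy)
  · rw [Sylow.coe_ofCard]
    have hoddQ : Odd (Q.subgroupOf (H.subgroupOf L)).index := by
      rw [← Nat.not_even_iff_odd]
      intro he
      obtain ⟨k, hk⟩ := even_iff_two_dvd.1 he
      have hm := (Q.subgroupOf (H.subgroupOf L)).card_mul_index
      rw [Nat.card_congr (Subgroup.subgroupOfEquivOfLe hQM).toEquiv, hk, hcard,
        S₀.card_eq_multiplicity, ← mul_assoc, ← pow_succ] at hm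
      have h2 : 2 ^ ((Nat.card G).factorization 2 + 1) ∣ Nat.card G :=
        ((Dvd.intro k hm).trans (Subgroup.card_subgroup_dvd_card _)).trans
          (Subgroup.card_subgroup_dvd_card L)
      exact Nat.pow_succ_factorization_not_dvd Nat.card_pos.ne' Nat.prime_two h2
    constructor
    intro q hq h
    rw [Subgroup.mem_subgroupOf] at hq ⊢
    obtain ⟨y, hy, hyq⟩ := hq
    have hzL : (h : G) * (y : G) * (h : G)⁻¹ ∈ L := hLn.conj_mem _ y.2 _
    have hzH : (h : G) * (y : G) * (h : G)⁻¹ ∈ H :=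
      H.mul_mem (H.mul_mem h.2 (Subgroup.mem_subgroupOf.1 (hQM hy))) (H.inv_mem h.2)
    let z : H.subgroupOf L := ⟨⟨_, hzL⟩, Subgroup.mem_subgroupOf.2 hzH⟩
    have hQp : IsPGroup 2 (Q.map L.subtype) := IsPGroup.of_card hQcard
    obtain ⟨k, hk⟩ := hQp ⟨(y : G), y, hy, rfl⟩
    have hk' : (y : G) ^ 2 ^ k = 1 := congrArg Subtype.val hk
    haveI := hQn
    have hz : z ∈ Q.subgroupOf (H.subgroupOf L) :=
      mem_of_odd_index (Q.subgroupOf (H.subgroupOf L)) hoddQ (k := k)
        (Subtype.ext (Subtype.ext (by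
          show ((h : G) * (y : G) * (h : G)⁻¹) ^ 2 ^ k = 1
          rw [conj_pow, hk', mul_one, mul_inv_cancel])))
    refine ⟨⟨_, hzL⟩, hz, ?_⟩
    show (h : G) * (y : G) * (h : G)⁻¹ = ((h * q * h⁻¹ : H) : G)
    rw [Subgroup.coe_mul, Subgroup.coe_mul, Subgroup.coe_inv, ← hyq]
    rfl

end CfsgLib.BenderUse
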