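import Cfsg.Agent.BenderUse.OneClass
import Cfsg.Agent.BenderUse.Split

/-!
# One class of maximal 2-local subgroups, granting `SplitHyp`
-/

set_option autoImplicit false

namespace CfsgLib.BenderUse

universe u

/-- S3245 from `SplitHyp`: one class of maximal 2-local subgroups forces one of the families. -/
theorem families_of_oneClass (hS : SplitHyp.{u}) {G : Type u} [Group G] [Finite G]
    [IsSimpleGroup G] (hG : ¬ IsMulCommutative G) (h1 : OneClass.OneClassHyp G) :
    (∃ (F : Type) (_ : Field F) (_ : Fintype F) (n : ℕ), 2 ≤ n ∧ Fintype.card F = 2 ^ n ∧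
        Nonempty (G ≃* Matrix.ProjectiveSpecialLinearGroup (Fin 2) F)) ∨
      Cfsg.Lie.IsoSuzuki G ∨
      (∃ (F : Type) (_ : Field F) (_ : Fintype F) (n : ℕ), 2 ≤ n ∧
        Fintype.card F = (2 ^ n) ^ 2 ∧ Nonempty (G ≃* Cfsg.PSU 3 F (2 ^ n))) := by
  have hna : ∃ a b : G, a * b ≠ b * a := by
    by_contra h
    push Not at h
    exact hG ⟨⟨h⟩⟩
  obtain ⟨H, hH⟩ := OneClass.exists_stronglyEmbedded hG h1
  rcases families_of_split hS hna hH with ⟨F, iF, iT, ⟨n, hn, hF⟩, he⟩ | h | h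
  · exact Or.inl ⟨F, iF, iT, n, hn, hF, he⟩
  · exact Or.inr (Or.inl h)
  · exact Or.inr (Or.inr h)

end CfsgLib.BenderUse
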