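import Cfsg.Agent.BenderUse.Split
import Cfsg.Agent.BenderUse.Main
import Cfsg.Agent.LocalEven.StronglyPEmbedded
import Cfsg.Agent.Linear.Basic
import Cfsg.Prelude.Def_Amalgam
import Cfsg.Prelude.Def_EvenType

/-!
# Applications of `SplitHyp`: solvability, centralisers of inverted elements, 2-closures
-/

set_option autoImplicit false
set_option linter.style.haveILetI false

namespace CfsgLib.BenderUse

open CfsgLib.SEmbed CfsgLib.Small

universe u

variable {G : Type u} [Group G] [Finite G]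

/-- A strongly 2-embedded subgroup is strongly embedded. -/
theorem isStronglyEmbedded_of_two {H : Subgroup G} (h : Cfsg.IsStronglyPEmbedded 2 H) :
    Cfsg.IsStronglyEmbedded H := by
  haveI : Fact (Nat.Prime 2) := ⟨Nat.prime_two⟩
  have hd := CfsgLib.LocalEven.dvd_card_of_isStronglyPEmbedded h
  refine ⟨h.2.1, even_iff_two_dvd.2 hd, fun g hg => ?_⟩
  rw [← Nat.not_even_iff_odd, even_iff_two_dvd]
  exact (CfsgLib.LocalEven.isStronglyPEmbedded_iff_inter_conj h.2.1 hd).1 h g hg

/-- With trivial odd core the involutions of a strongly embedded subgroup commute. -/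
theorem commute_invol (hS : SplitHyp.{u}) {H : Subgroup G} (hH : Cfsg.IsStronglyEmbedded H)
    (hO : Cfsg.oddCore G = ⊥) {a b : G} (ha : a ∈ H) (hb : b ∈ H) (hao : orderOf a = 2)
    (hbo : orderOf b = 2) : Commute a b := by
  haveI : Fact (Nat.Prime 2) := ⟨Nat.prime_two⟩
  obtain ⟨-, -, -, -, -, S, hSH, hSn⟩ := exists_sylow_normal hS hH hO
  haveI := hSn
  haveI := nontrivial_cosets hH
  have hmem : ∀ x : G, x ∈ H → orderOf x = 2 → x ∈ (S : Subgroup G) := fun x hx hxo => by
    have hodd : Odd ((S : Subgroup G).subgroupOf H).index := by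
      rw [← Nat.not_even_iff_odd, even_iff_two_dvd]
      exact (S.subtype hSH).not_dvd_index
    exact Subgroup.mem_subgroupOf.1 (mem_of_odd_index _ hodd (x := ⟨x, hx⟩) (k := 1)
      (Subtype.ext (by rw [pow_one]; show x ^ 2 = 1; rw [← hxo, pow_orderOf_eq_one])))
  haveI : Nontrivial (S : Subgroup G) :=
    ⟨⟨⟨a, hmem a ha hao⟩, 1, fun h => ne_one_of_orderOf_two hao (congrArg Subtype.val h)⟩⟩
  obtain ⟨z, hz⟩ : ∃ z : Subgroup.center (S : Subgroup G), orderOf z = 2 := by
    haveI := S.2.center_nontrivial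
    obtain ⟨k, hk⟩ := IsPGroup.iff_card.1 (S.2.to_subgroup (Subgroup.center (S : Subgroup G)))
    refine exists_prime_orderOf_dvd_card' 2 ?_
    have := Finite.one_lt_card (α := Subgroup.center (S : Subgroup G))
    rw [hk] at this ⊢
    rcases k with _ | k
    · simp at this
    · exact dvd_pow_self 2 (by omega)
  have hzo : orderOf ((z : (S : Subgroup G)) : G) = 2 := by
    rw [Subgroup.orderOf_coe, Subgroup.orderOf_coe, hz]
  obtain ⟨g, hg⟩ := isConj_iff.1 (isConj_invol (uniqueFix hH) hzo hao)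
  have hgH : g ∈ H := (smul_one_eq_iff H g).1 ((uniqueFix hH).unique a hao _ _ (by
    rw [← hg, smul_smul, inv_mul_cancel_right, mul_smul,
      (smul_one_eq_iff H _).2 (hSH (z : (S : Subgroup G)).2)])
    ((smul_one_eq_iff H a).2 ha))
  have hb' : g⁻¹ * b * g ∈ (S : Subgroup G) := hmem _
    (H.mul_mem (H.mul_mem (H.inv_mem hgH) hb) hgH) (by
      have := orderOf_conj_eq g⁻¹ b
      rw [inv_inv] at this
      rw [this, hbo])
  have hc := congrArg Subtype.val (Subgroup.mem_center_iff.1 z.2 ⟨_, hb'⟩)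
  simp only [Subgroup.coe_mul] at hc
  have : b * a = a * b := by
    rw [← hg]
    calc b * (g * ((z : (S : Subgroup G)) : G) * g⁻¹)
        = g * (g⁻¹ * b * g * ((z : (S : Subgroup G)) : G)) * g⁻¹ := by group
      _ = g * (((z : (S : Subgroup G)) : G) * (g⁻¹ * b * g)) * g⁻¹ := by rw [hc]
      _ = g * ((z : (S : Subgroup G)) : G) * g⁻¹ * b := by group
  exact this.symm

/-- Two involutions, one centralising and one inverting an element of odd order `> 1`, are
distinct involutions with a common commuting involution. -/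
theorem exists_commuting {j u t : G} (hu : orderOf u = 2) (ht : orderOf t = 2)
    (hj : Odd (orderOf j)) (hj1 : j ≠ 1) (hinv : u * j * u⁻¹ = j⁻¹) (htj : Commute t j) :
    ∃ z : G, orderOf z = 2 ∧ Commute z u ∧ Commute z t ∧ u ≠ t := by
  have hne : ¬ Commute u j := fun hc => hj1 (by
    have h2 : j * j = 1 := by
      have : j = j⁻¹ := by rw [← hinv, hc.eq, mul_inv_cancel_right]
      calc j * j = j * j⁻¹ := by rw [← this]
        _ = 1 := mul_inv_cancel j
    have hd : orderOf j ∣ 2 := orderOf_dvd_of_pow_eq_one (by rw [sq]; exact h2)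
    exact orderOf_eq_one_iff.1 (Nat.Coprime.eq_one_of_dvd (Nat.coprime_two_right.2 hj) hd))
  have hut : u ≠ t := fun h => hne (h ▸ htj)
  rcases Nat.even_or_odd (orderOf (u * t)) with he | ho
  · obtain ⟨n, hn⟩ := he
    have hn0 : n ≠ 0 := fun h => by
      have := orderOf_pos (u * t); omega
    have hzo : orderOf ((u * t) ^ n) = 2 := by
      rw [orderOf_pow' _ hn0, hn, ← two_mul, Nat.gcd_mul_left_left,
        Nat.mul_div_cancel _ (Nat.pos_of_ne_zero hn0)]
    have huu := inv_eq_self_of_orderOf_two hu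
    have htt := inv_eq_self_of_orderOf_two ht
    have hzi : ((u * t) ^ n)⁻¹ = (u * t) ^ n := inv_eq_self_of_orderOf_two hzo
    have h1 : u * (u * t) * u⁻¹ = (u * t)⁻¹ := by
      rw [mul_inv_rev, huu, htt, ← mul_assoc, mul_self_of_orderOf_two hu, one_mul]
    have h2 : t * (u * t) * t⁻¹ = (u * t)⁻¹ := by
      rw [mul_inv_rev, huu, htt, mul_assoc, mul_assoc, mul_self_of_orderOf_two ht, mul_one]
    refine ⟨_, hzo, ?_, ?_, hut⟩
    · have : u * (u * t) ^ n * u⁻¹ = (u * t) ^ n := by rw [← conj_pow, h1, inv_pow, hzi]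
      exact (mul_inv_eq_iff_eq_mul.1 this).symm
    · have : t * (u * t) ^ n * t⁻¹ = (u * t) ^ n := by rw [← conj_pow, h2, inv_pow, hzi]
      exact (mul_inv_eq_iff_eq_mul.1 this).symm
  · exfalso
    obtain ⟨k, hk⟩ := conj_pow_eq_of_odd ht hu (by
      have h : t * u = (u * t)⁻¹ := by
        rw [mul_inv_rev, inv_eq_self_of_orderOf_two hu, inv_eq_self_of_orderOf_two ht]
      rw [h, orderOf_inv]; exact ho)
    have htu : Commute t j → ∀ x : G, x = t ∨ x = u →
        (∀ c : G, Commute c j → Commute (x * c * x⁻¹) j) := by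
      intro _ x hx c hc
      rcases hx with hxt | hxu
      · rw [hxt]; exact (htj.mul_left hc).mul_left htj.inv_left
      · rw [hxu]
        have hc' : Commute c j⁻¹ := hc.inv_right
        have h3 : u * j⁻¹ * u⁻¹ = j := by
          have := congrArg Inv.inv hinv
          simpa [mul_assoc] using this
        show u * c * u⁻¹ * j = j * (u * c * u⁻¹)
        calc u * c * u⁻¹ * j = u * c * u⁻¹ * (u * j⁻¹ * u⁻¹) := by rw [h3]
          _ = u * (c * j⁻¹) * u⁻¹ := by group
          _ = u * (j⁻¹ * c) * u⁻¹ := by rw [hc'.eq]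
          _ = (u * j⁻¹ * u⁻¹) * (u * c * u⁻¹) := by group
          _ = j * (u * c * u⁻¹) := by rw [h3]
    have key : ∀ m : ℕ, Commute ((t * u) ^ m * t * ((t * u) ^ m)⁻¹) j := by
      intro m
      induction m with
      | zero => simpa using htj
      | succ m ih =>
        have := htu htj t (Or.inl rfl) _ (htu htj u (Or.inr rfl) _ ih)
        convert this using 1
        rw [pow_succ']
        generalize (t * u) ^ m = p
        group
    exact hne (hk ▸ key k)

/-- S1223 from `SplitHyp`. -/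
theorem odd_centralizer (hS : SplitHyp.{u}) {H : Subgroup G} (hH : Cfsg.IsStronglyEmbedded H)
    (hcore : H.normalCore = ⊥) {u : G} (hu : orderOf u = 2) (huH : u ∉ H) {j : G}
    (hj : j ∈ H ⊓ H.map (MulAut.conj u).toMonoidHom) (hj1 : j ≠ 1)
    (hinv : u * j * u⁻¹ = j⁻¹) : Odd (Nat.card (Subgroup.centralizer ({j} : Set G))) := by
  haveI : Fact (Nat.Prime 2) := ⟨Nat.prime_two⟩
  rw [← Nat.not_even_iff_odd]
  intro he
  obtain ⟨t, htc, ht⟩ := exists_invol_mem he
  have htj : Commute t j := Subgroup.mem_centralizer_singleton_iff.1 htc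
  have hjo : Odd (orderOf j) := by
    refine (hH.2.2 u huH).of_dvd_nat ?_
    have h := orderOf_dvd_natCard (⟨j, hj⟩ : ↥(H ⊓ H.map (MulAut.conj u).toMonoidHom))
    rwa [Subgroup.orderOf_mk] at h
  obtain ⟨z, hz, hzu, hzt, hut⟩ := exists_commuting hu ht hjo hj1 hinv htj
  have huf := uniqueFix hH
  obtain ⟨c, hc⟩ := huf.exists_fix z hz
  have huc : u • c = c := commute_fix huf hz hzu.symm hc
  have htc' : t • c = c := commute_fix huf hz hzt.symm hc
  have hjc : j • c = c := commute_fix huf ht htj.symm htc'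
  by_cases hV : ∃ V : Subgroup G, IsFour V
  · obtain ⟨V, hV⟩ := hV
    have hO : Cfsg.oddCore G = ⊥ := le_bot_iff.1 (hcore ▸
      Subgroup.normal_le_normalCore.2 (oddCore_le hH hV))
    obtain ⟨g, rfl⟩ := QuotientGroup.mk_surjective c
    have hu' : orderOf (j * u * j⁻¹) = 2 := by rw [orderOf_conj_eq, hu]
    have hju : (j * u * j⁻¹) • (g : G ⧸ H) = g := by
      rw [mul_smul, mul_smul, inv_smul_eq_iff.2 hjc.symm, huc, hjc]
    have hord : ∀ x : G, orderOf x = 2 → orderOf (g⁻¹ * x * g) = 2 := fun x hx => by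
      have := orderOf_conj_eq g⁻¹ x
      rw [inv_inv] at this
      rw [this, hx]
    have hcm := commute_invol hS hH hO ((smul_mk_eq_iff H _ g).1 hju) ((smul_mk_eq_iff H _ g).1 huc)
      (hord _ hu') (hord _ hu)
    have hcomm : Commute (j * u * j⁻¹) u := by
      have := hcm.map (MulAut.conj g).toMonoidHom
      simpa [mul_assoc] using this
    have hju2 : j * u * j⁻¹ = j * j * u := by
      have h3 : u * j⁻¹ = j * u := by
        have h := congrArg Inv.inv hinv
        simp only [mul_inv_rev, inv_inv] at h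
        calc u * j⁻¹ = (u * (j⁻¹ * u⁻¹)) * u := by group
          _ = j * u := by rw [h]
      rw [mul_assoc, h3, ← mul_assoc]
    have hp : j * j * (j * j) = 1 := by
      have hh := hcomm.eq
      have h1 : (j * j) * u * u = u * ((j * j) * u) := by rw [← hju2]; exact hh
      rw [mul_assoc (j * j) u u, mul_self_of_orderOf_two hu, mul_one] at h1
      have h2 : u * (j * j) * u⁻¹ = (j * j)⁻¹ := by
        rw [mul_inv_rev, ← hinv]; group
      calc j * j * (j * j) = (u * (j * j) * u⁻¹) * (j * j) := by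
              rw [inv_eq_self_of_orderOf_two hu, mul_assoc u (j * j) u, ← h1]
        _ = 1 := by rw [h2, inv_mul_cancel]
    have hd : orderOf j ∣ 2 ^ 2 := orderOf_dvd_of_pow_eq_one (by
      rw [← hp, show (2 : ℕ) ^ 2 = 2 + 2 by norm_num, pow_add, sq])
    exact hj1 (orderOf_eq_one_iff.1
      (Nat.Coprime.eq_one_of_dvd ((Nat.coprime_two_right.2 hjo).pow_right 2) hd))
  · push Not at hV
    have hzz : ∀ x : G, orderOf x = 2 → Commute z x → z = x := fun x hx hcx => by
      by_contra hne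
      exact hV _ (isFour_closure_pair hz hx hne hcx)
    exact hut ((hzz u hu hzu).symm.trans (hzz t ht hzt))

/-- An elementary abelian 2-subgroup of order at least four contains a four group. -/
theorem exists_four (h : Cfsg.PRankAtLeast 2 2 G) : ∃ V : Subgroup G, IsFour V := by
  haveI : Fact (Nat.Prime 2) := ⟨Nat.prime_two⟩
  obtain ⟨A, hA, hexp, hcard⟩ := h
  haveI := hA
  have key : ∀ x : A, x ≠ 1 → orderOf (x : G) = 2 := fun x hx =>
    orderOf_eq_prime (hexp x x.2) fun hh => hx (Subtype.ext hh)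
  haveI := Fintype.ofFinite A
  have h4 : 4 ≤ Fintype.card A := by rw [← Nat.card_eq_fintype_card]; simpa using hcard
  obtain ⟨x, hx⟩ := Fintype.exists_ne_of_one_lt_card (by omega : 1 < Fintype.card A) 1
  obtain ⟨y, hy⟩ : ∃ y : A, y ≠ 1 ∧ y ≠ x := by
    classical
    obtain ⟨y, -, hy⟩ := Finset.exists_mem_notMem_of_card_lt_card (s := ({1, x} : Finset A))
      (t := Finset.univ) (by rw [Finset.card_univ]; exact Finset.card_le_two.trans_lt (by omega))
    exact ⟨y, by simpa [not_or] using hy⟩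
  exact ⟨_, isFour_closure_pair (key y hy.1) (key x hx) (fun hh => hy.2 (Subtype.ext hh))
    (congrArg Subtype.val (mul_comm' y x))⟩

/-- A group with a normal Sylow 2-subgroup is solvable. -/
theorem isSolvable_of_normal_sylow {H : Type u} [Group H] [Finite H] (N : Subgroup H) [N.Normal]
    (hN : IsPGroup 2 N) (hodd : Odd N.index) : Group.IsSolvable H := by
  haveI : Fact (Nat.Prime 2) := ⟨Nat.prime_two⟩
  haveI := hN.isNilpotent
  haveI : Group.IsSolvable (H ⧸ N) :=
    Cfsg.Agent.S0205.result (by rwa [← Subgroup.index_eq_card])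
  exact solvable_of_ker_le_range N.subtype (QuotientGroup.mk' N) (by
    rw [QuotientGroup.ker_mk', Subgroup.range_subtype])

/-- S2903 from `SplitHyp`. -/
theorem isSolvable_of_four (hS : SplitHyp.{u}) {H : Subgroup G}
    (hH : Cfsg.IsStronglyEmbedded H) {V : Subgroup G} (hV : IsFour V) : Group.IsSolvable H := by
  haveI : Fact (Nat.Prime 2) := ⟨Nat.prime_two⟩
  have hO := oddCore_le hH hV
  have hodd : Odd (Nat.card (Cfsg.oddCore G)) := CfsgLib.TwoGroups.odd_card_oddCore
  have hH' := map_isStronglyEmbedded hH _ hO hodd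
  obtain ⟨-, -, -, -, -, S, hSH, hSn⟩ := exists_sylow_normal hS hH'
    (CfsgLib.PLocal.pPrimeCore_quotient_pPrimeCore_eq_bot 2 G)
  set Hb := H.map (QuotientGroup.mk' (Cfsg.oddCore G)) with hHb
  haveI := hSn
  have h1 : Group.IsSolvable Hb := by
    refine isSolvable_of_normal_sylow ((S : Subgroup (G ⧸ Cfsg.oddCore G)).subgroupOf Hb)
      (IsPGroup.of_equiv S.2 (Subgroup.subgroupOfEquivOfLe hSH).symm) ?_
    rw [← Nat.not_even_iff_odd, even_iff_two_dvd]
    exact (S.subtype hSH).not_dvd_index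
  haveI : Group.IsSolvable (Cfsg.oddCore G) := Cfsg.Agent.S0205.result hodd
  let f : H →* Hb := (QuotientGroup.mk' (Cfsg.oddCore G)).subgroupMap H
  refine solvable_of_ker_le_range (Subgroup.inclusion hO) f fun x hx => ?_
  have hxO : (x : G) ∈ Cfsg.oddCore G := by
    have := congrArg Subtype.val (MonoidHom.mem_ker.1 hx)
    exact (QuotientGroup.eq_one_iff (x : G)).1 this
  exact ⟨⟨x, hxO⟩, Subtype.ext rfl⟩

/-- In a group with a strongly embedded subgroup and no four group, every involution `t` is the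
only involution of its centraliser, and `G = O(G) C(t)`. -/
theorem rankOne_centralizer {H : Subgroup G} (hH : Cfsg.IsStronglyEmbedded H)
    (hV : ∀ V : Subgroup G, ¬ IsFour V) {t : G} (ht : orderOf t = 2) :
    Cfsg.oddCore G ⊔ Subgroup.centralizer ({t} : Set G) = ⊤ ∧
      ∀ u ∈ Subgroup.centralizer ({t} : Set G), orderOf u = 2 → u = t := by
  refine ⟨?_, fun u hu huo => by
    by_contra hne
    exact hV _ (isFour_closure_pair huo ht hne (Subgroup.mem_centralizer_singleton_iff.1 hu))⟩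
  obtain ⟨z, hz, N, hN, hodd, hc⟩ := Cfsg.Agent.S0225.result
    (even_iff_two_dvd.2 ((even_iff_two_dvd.1 hH.2.1).trans (Subgroup.card_subgroup_dvd_card H)))
    fun E hE => hV E ⟨hE.card_four, fun x hx => by
      haveI := hE
      exact congrArg Subtype.val (IsKleinFour.mul_self (⟨x, hx⟩ : E))⟩
  haveI := nontrivial_cosets hH
  obtain ⟨k, rfl⟩ := isConj_iff.1 (isConj_invol (uniqueFix hH) hz ht)
  have htN : ∀ g : G, k * z * k⁻¹ * g * (k * z * k⁻¹)⁻¹ * g⁻¹ ∈ N := fun g => by
    have h := hN.conj_mem _ (hc (k⁻¹ * g * k)) k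
    simpa [mul_assoc] using h
  generalize htdef : k * z * k⁻¹ = t at ht htN ⊢
  rw [eq_top_iff]
  intro g _
  obtain ⟨c, hcdef⟩ : ∃ c, c = t * g * t⁻¹ * g⁻¹ := ⟨_, rfl⟩
  obtain ⟨m, hm⟩ := hodd
  have hcm : c ^ (2 * m + 1) = 1 := by
    rw [← hm]; exact congrArg Subtype.val (pow_card_eq_one' (x := (⟨c, hcdef ▸ htN g⟩ : N)))
  have htt : t * t = 1 := mul_self_of_orderOf_two ht
  have hti : t⁻¹ = t := inv_eq_of_mul_eq_one_right htt
  have h0 : t * c * t⁻¹ = c⁻¹ := by
    rw [hcdef, hti, mul_inv_rev, mul_inv_rev, mul_inv_rev, inv_inv, hti]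
    calc t * (t * g * t * g⁻¹) * t = (t * t) * g * t * g⁻¹ * t := by group
      _ = g * (t * (g⁻¹ * t)) := by rw [htt, one_mul]; group
  have h1 : t * (c ^ m)⁻¹ * t⁻¹ = c ^ m := by
    have h0' : t * c⁻¹ * t⁻¹ = c := by
      have := congrArg Inv.inv h0
      simpa [mul_assoc] using this
    rw [← inv_pow, ← conj_pow, h0']
  have hcomm : Commute ((c ^ m)⁻¹ * g) t := by
    symm
    show t * ((c ^ m)⁻¹ * g) = (c ^ m)⁻¹ * g * t
    calc t * ((c ^ m)⁻¹ * g) = t * (c ^ m)⁻¹ * t⁻¹ * (t * g * t⁻¹) * t := by group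
      _ = c ^ m * (c * g) * t := by rw [h1, hcdef]; group
      _ = (c ^ m)⁻¹ * (c ^ (2 * m + 1)) * g * t := by group
      _ = (c ^ m)⁻¹ * g * t := by rw [hcm, mul_one]
  have : g = c ^ m * ((c ^ m)⁻¹ * g) := by group
  rw [this]
  exact Subgroup.mul_mem_sup (le_oddCore ⟨m, hm⟩ (Subgroup.pow_mem _ (hcdef ▸ htN g) m))
    (Subgroup.mem_centralizer_singleton_iff.2 hcomm)

/-- The subgroup generated by the 2-elements is a simple normal subgroup of odd index. -/
theorem pElementClosure_eq {L : Subgroup G} [L.Normal] (hodd : Odd L.index) [IsSimpleGroup L]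
    (heven : Even (Nat.card L)) : Cfsg.pElementClosure 2 (⊤ : Subgroup G) = L := by
  set C := Cfsg.pElementClosure 2 (⊤ : Subgroup G) with hC
  have hle : C ≤ L := (Subgroup.closure_le _).2 fun x ⟨_, k, hk⟩ =>
    mem_of_odd_index L hodd (k := k) (hk ▸ pow_orderOf_eq_one x)
  haveI : C.Normal := ⟨fun r hr g => by
    have hsub : {x : G | x ∈ (⊤ : Subgroup G) ∧ ∃ k : ℕ, orderOf x = 2 ^ k} ⊆
        (C.comap (MulAut.conj g).toMonoidHom : Set G) := fun a ⟨_, k, hk⟩ => by
      simp only [Subgroup.coe_comap, Set.mem_preimage, MulEquiv.coe_toMonoidHom,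
        MulAut.conj_apply, SetLike.mem_coe]
      exact Subgroup.subset_closure ⟨trivial, k, by rw [orderOf_conj_eq, hk]⟩
    simpa using (Subgroup.closure_le _).2 hsub hr⟩
  rcases ((inferInstance : (C.subgroupOf L).Normal)).eq_bot_or_eq_top with h | h
  · exfalso
    obtain ⟨s, hsL, hs⟩ := exists_invol_mem heven
    have hsC : (⟨s, hsL⟩ : L) ∈ C.subgroupOf L :=
      Subgroup.mem_subgroupOf.2 (Subgroup.subset_closure ⟨trivial, 1, by rw [hs, pow_one]⟩)
    rw [h, Subgroup.mem_bot] at hsC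
    exact ne_one_of_orderOf_two hs (congrArg Subtype.val hsC)
  · exact le_antisymm hle (Subgroup.subgroupOf_eq_top.1 h)

/-- `SL₂(2^n)` is its own projective group. -/
theorem nonempty_sl_equiv_psl {F : Type} [Field F] [Fintype F] {n : ℕ}
    (hn : Fintype.card F = 2 ^ n) :
    Nonempty (Matrix.ProjectiveSpecialLinearGroup (Fin 2) F ≃*
      Matrix.SpecialLinearGroup (Fin 2) F) := by
  have hz : Subgroup.center (Matrix.SpecialLinearGroup (Fin 2) F) = ⊥ := by
    refine Subgroup.card_eq_one.1 ?_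
    rw [CfsgLib.Linear.card_center_SL, Fintype.card_fin, hn]
    refine Nat.Coprime.gcd_eq_one ((Nat.Prime.coprime_iff_not_dvd Nat.prime_two).2 ?_)
    rcases n with _ | n
    · exact absurd hn (by have := Fintype.one_lt_card (α := F); omega)
    rw [pow_succ]
    have := Nat.one_le_two_pow (n := n)
    omega
  exact ⟨(MulEquiv.ofBijective (QuotientGroup.mk' _)
    ⟨(MonoidHom.ker_eq_bot_iff _).1 (by rw [QuotientGroup.ker_mk', hz]),
      QuotientGroup.mk'_surjective _⟩).symm⟩

/-- S2798 from `SplitHyp`. -/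
theorem classification (hS : SplitHyp.{u}) {H : Type u} [Group H] [Finite H] (X : Subgroup H)
    (hX : Cfsg.IsStronglyPEmbedded 2 X) :
    (∀ t : H, orderOf t = 2 →
        Cfsg.pPrimeCore 2 H ⊔ Subgroup.centralizer ({t} : Set H) = ⊤ ∧
        ∀ u ∈ Subgroup.centralizer ({t} : Set H), orderOf u = 2 → u = t) ∨
      (∃ (F : Type) (_ : Field F) (_ : Fintype F), CharP F 2 ∧ 4 ≤ Fintype.card F ∧
        Nonempty (↥(Cfsg.pElementClosure 2 (⊤ : Subgroup (H ⧸ Cfsg.pPrimeCore 2 H))) ≃*
          Matrix.SpecialLinearGroup (Fin 2) F)) ∨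
      (∃ (F : Type) (_ : Field F) (_ : Fintype F) (q : ℕ), Even q ∧ 4 ≤ q ∧
        Fintype.card F = q ^ 2 ∧
        Nonempty (↥(Cfsg.pElementClosure 2 (⊤ : Subgroup (H ⧸ Cfsg.pPrimeCore 2 H))) ≃*
          Cfsg.PSU 3 F q)) ∨
      Cfsg.Lie.IsoSuzuki
        ↥(Cfsg.pElementClosure 2 (⊤ : Subgroup (H ⧸ Cfsg.pPrimeCore 2 H))) := by
  have hH := isStronglyEmbedded_of_two hX
  by_cases hV : ∃ V : Subgroup H, IsFour V
  swap
  · push Not at hV
    exact Or.inl fun t ht => rankOne_centralizer hH hV ht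
  obtain ⟨V, hV⟩ := hV
  haveI : Fact (Nat.Prime 2) := ⟨Nat.prime_two⟩
  have hH' := map_isStronglyEmbedded hH _ (oddCore_le hH hV) CfsgLib.TwoGroups.odd_card_oddCore
  obtain ⟨L, hLn, hodd, hsimple, hfam, -⟩ := exists_sylow_normal hS hH'
    (CfsgLib.PLocal.pPrimeCore_quotient_pPrimeCore_eq_bot 2 H)
  haveI := hLn
  haveI := hsimple
  have heven : Even (Nat.card L) := by
    have h := (hH'.2.1.trans_dvd (Subgroup.card_subgroup_dvd_card _))
    rw [← Subgroup.card_mul_index L, Nat.even_mul] at h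
    exact h.resolve_right (Nat.not_even_iff_odd.2 hodd)
  have e : Cfsg.pElementClosure 2 (⊤ : Subgroup (H ⧸ Cfsg.pPrimeCore 2 H)) = L :=
    pElementClosure_eq hodd heven
  rw [e]
  rcases hfam with ⟨F, iF, iT, ⟨n, hn, hF⟩, ⟨f⟩⟩ | hSz | ⟨F, iF, iT, n, hn, hF, hf⟩
  · obtain ⟨g⟩ := nonempty_sl_equiv_psl hF
    exact Or.inr (Or.inl ⟨F, iF, iT, charP_of_card_eq_prime_pow hF, by
      rw [hF]; exact le_trans (by norm_num) (Nat.pow_le_pow_right two_pos hn), ⟨f.trans g⟩⟩)
  · exact Or.inr (Or.inr (Or.inr hSz))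
  · exact Or.inr (Or.inr (Or.inl ⟨F, iF, iT, 2 ^ n, even_two.pow_of_ne_zero (by omega),
      le_trans (by norm_num) (Nat.pow_le_pow_right two_pos hn), hF, hf⟩))

/-- S1792 from `SplitHyp`. -/
theorem simple_classification (hS : SplitHyp.{u}) [IsSimpleGroup G]
    (hna : ¬ IsMulCommutative G) {M : Subgroup G} (hM : Cfsg.IsStronglyPEmbedded 2 M) :
    Families G ∧ ∃ S : Sylow 2 G, M = Subgroup.normalizer ((S : Subgroup G) : Set G) := by
  haveI : Fact (Nat.Prime 2) := ⟨Nat.prime_two⟩
  have hH := isStronglyEmbedded_of_two hM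
  have hna' : ∃ a b : G, a * b ≠ b * a := by
    by_contra h
    push Not at h
    exact hna ⟨⟨h⟩⟩
  have hO : Cfsg.oddCore G = ⊥ := by
    rcases (inferInstance : (Cfsg.oddCore G).Normal).eq_bot_or_eq_top with h | h
    · exact h
    · exfalso
      have hodd := CfsgLib.TwoGroups.odd_card_oddCore (G := G)
      rw [h, Subgroup.card_top] at hodd
      exact Nat.not_even_iff_odd.2 hodd (hH.2.1.trans_dvd (Subgroup.card_subgroup_dvd_card _))
  obtain ⟨-, -, -, -, -, S, hSH, hSn⟩ := exists_sylow_normal hS hH hO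
  refine ⟨families_of_split hS hna' hH, S, le_antisymm
    ((Subgroup.normal_subgroupOf_iff_le_normalizer hSH).1 hSn) ?_⟩
  refine CfsgLib.EvenType.normalizer_le_of_isStronglyPEmbedded hM hSH S.2 ?_
  exact S.ne_bot_of_dvd_card
    ((even_iff_two_dvd.1 hH.2.1).trans (Subgroup.card_subgroup_dvd_card M))

end CfsgLib.BenderUse
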