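import Cfsg.Prelude.Def_ClassificationStages
import Cfsg.Agent.BenderUse.SplitUse
import Cfsg.Agent.SuzukiTheorem.TheoremO
import Cfsg.Agent.Fusion.StronglyEmbedded

/-!
# Groups of Suzuki type from a regular normal subgroup of a strongly embedded subgroup

Granting `SplitHyp` (a strongly embedded subgroup of a simple group has a normal subgroup regular
on the other cosets), a simple group with a maximal strongly
2-embedded subgroup is doubly transitive of Suzuki type.
-/

set_option autoImplicit false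

namespace CfsgLib.BenderUse

open CfsgLib.SEmbed

universe u

variable {G : Type u} [Group G] [Finite G]

omit [Finite G] in
/-- A strongly embedded subgroup of a simple group, if maximal, is self-normalizing. -/
theorem normalizer_eq_of_coatom [IsSimpleGroup G] {M : Subgroup G}
    (hM : Cfsg.IsStronglyEmbedded M) (hmax : IsCoatom M) : Subgroup.normalizer (M : Set G) = M := by
  rcases lt_or_eq_of_le (Subgroup.le_normalizer (H := M)) with h | h
  · rcases (Subgroup.normalizer_eq_top_iff.1 (hmax.2 _ h)).eq_bot_or_eq_top with e | e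
    · have := hM.2.1
      rw [e, Subgroup.card_bot] at this
      exact absurd this (by decide)
    · exact absurd e hM.1
  · exact h.symm

omit [Finite G] in
theorem conj_eq_iff {M : Subgroup G} (hN : Subgroup.normalizer (M : Set G) = M) (g : G) :
    M.map (MulAut.conj g).toMonoidHom = M ↔ g ∈ M := by
  have hmem : ∀ x : G, x ∈ M.map (MulAut.conj g).toMonoidHom ↔ g⁻¹ * x * g ∈ M := fun x => by
    rw [Subgroup.mem_map]
    exact ⟨by rintro ⟨y, hy, rfl⟩; simpa [mul_assoc] using hy,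
      fun h => ⟨_, h, by simp [mul_assoc]⟩⟩
  conv_rhs => rw [← hN, Subgroup.mem_normalizer_iff'']
  constructor
  · intro h x
    rw [← hmem, h]
  · intro h
    ext x
    rw [hmem]
    exact (h x).symm

omit [Finite G] in
theorem mem_normalizer_conj_iff {M : Subgroup G} (hN : Subgroup.normalizer (M : Set G) = M)
    (g x : G) :
    x ∈ Subgroup.normalizer ((M.map (MulAut.conj g).toMonoidHom : Subgroup G) : Set G) ↔
      g⁻¹ * x * g ∈ M := by
  have hmem : ∀ y : G, y ∈ M.map (MulAut.conj g).toMonoidHom ↔ g⁻¹ * y * g ∈ M := fun y => by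
    rw [Subgroup.mem_map]
    exact ⟨by rintro ⟨z, hz, rfl⟩; simpa [mul_assoc] using hz,
      fun h => ⟨_, h, by simp [mul_assoc]⟩⟩
  conv_rhs => rw [← hN]
  rw [Subgroup.mem_normalizer_iff, Subgroup.mem_normalizer_iff]
  constructor
  · intro h y
    have := h (g * y * g⁻¹)
    rw [hmem, hmem] at this
    simpa [mul_assoc] using this
  · intro h y
    rw [hmem, hmem, h]
    simp [mul_assoc]

omit [Finite G] in
theorem conj_conj (M : Subgroup G) (g u : G) :
    (M.map (MulAut.conj g).toMonoidHom).map (MulAut.conj u).toMonoidHom =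
      M.map (MulAut.conj (u * g)).toMonoidHom := by
  rw [Subgroup.map_map]
  congr 1
  ext x
  simp [mul_assoc]

omit [Finite G] in
theorem conj_eq_conj_iff {M : Subgroup G} (hN : Subgroup.normalizer (M : Set G) = M) (a b : G) :
    M.map (MulAut.conj a).toMonoidHom = M.map (MulAut.conj b).toMonoidHom ↔ b⁻¹ * a ∈ M := by
  have hinj : Function.Injective fun K : Subgroup G => K.map (MulAut.conj b).toMonoidHom :=
    Subgroup.map_injective (MulAut.conj b).injective
  rw [← conj_eq_iff hN, ← hinj.eq_iff (a := M.map (MulAut.conj (b⁻¹ * a)).toMonoidHom)]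
  simp only [conj_conj, mul_inv_cancel_left]

/-- **Suzuki type from the regular normal subgroup.** -/
theorem suzukiType (hR : SplitHyp.{u}) [IsSimpleGroup G] (hna : ¬ IsMulCommutative G)
    {M : Subgroup G} (hmax : IsCoatom M) (hM : Cfsg.IsStronglyPEmbedded 2 M) :
    Cfsg.IsDoublyTransitiveSuzukiType M := by
  haveI : Fact (Nat.Prime 2) := ⟨Nat.prime_two⟩
  have hse := isStronglyEmbedded_of_two hM
  obtain ⟨Q, hQM, hQn, htrans, hreg⟩ := hR G
    (by by_contra! h; exact hna ⟨⟨h⟩⟩) M hse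
  haveI := faithfulSMul_cosets hse.1
  obtain ⟨t, hS⟩ := exists_rankOne_setup M hse Q hQM hQn htrans hreg
  have hQ2 : IsPGroup 2 Q := CfsgLib.SuzukiThm.two_group_Q hS (exists_commuting_invols hse)
  have hN := normalizer_eq_of_coatom hse hmax
  have hout : ∀ g : G, M.map (MulAut.conj g).toMonoidHom ≠ M → g ∉ M := fun g h hg =>
    h ((conj_eq_iff hN g).2 hg)
  have hex : ∀ g₁ g₂ : G, M.map (MulAut.conj g₁).toMonoidHom ≠ M →
      M.map (MulAut.conj g₂).toMonoidHom ≠ M → ∃ u ∈ Q,
        (M.map (MulAut.conj g₁).toMonoidHom).map (MulAut.conj u).toMonoidHom =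
          M.map (MulAut.conj g₂).toMonoidHom := fun g₁ g₂ h₁ h₂ => by
    obtain ⟨u, hu, h⟩ := htrans g₁ g₂ (hout _ h₁) (hout _ h₂)
    exact ⟨u, hu, by rw [conj_conj, conj_eq_conj_iff hN]; exact h⟩
  obtain ⟨g, hg⟩ : ∃ g : G, g ∉ M := by
    by_contra! h
    exact hse.1 (eq_top_iff.2 fun x _ => h x)
  have hgne : M.map (MulAut.conj g).toMonoidHom ≠ M := fun h => hg ((conj_eq_iff hN g).1 h)
  refine ⟨hN, ⟨g, hgne⟩, fun g₁ g₂ h₁ h₂ => ?_, g, hgne, Q, hQM, hQn, ?_, ?_, ?_, ?_, ?_⟩
  · obtain ⟨u, hu, h⟩ := hex g₁ g₂ h₁ h₂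
    exact ⟨u, hQM hu, h⟩
  · refine eq_bot_iff.2 fun x hx => ?_
    have h := (mem_normalizer_conj_iff hN g x).1 hx.2.2
    exact Subgroup.mem_bot.2 (hreg g hg x hx.1 (by simpa [mul_assoc] using h))
  · refine le_antisymm (sup_le hQM inf_le_left) fun x hx => ?_
    obtain ⟨u, hu, h⟩ := htrans g (x * g) hg fun hm => hg (by
      simpa using mul_mem (inv_mem hx) hm)
    rw [show x = u * (u⁻¹ * x) by group]
    refine Subgroup.mul_mem_sup hu (Subgroup.mem_inf.2 ⟨mul_mem (inv_mem (hQM hu)) hx, ?_⟩)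
    rw [mem_normalizer_conj_iff hN]
    simpa [mul_assoc] using inv_mem h
  · exact hQ2.isNilpotent
  · obtain ⟨S, -, hSM, -⟩ := CfsgLib.EvenType.exists_sylow_le_of_isStronglyPEmbedded hM
    have hSQ : (S : Subgroup G) ≤ Subgroup.normalizer (Q : Set G) := fun s hs => by
      refine Subgroup.mem_normalizer_fintype fun q hq => ?_
      have := hQn.conj_mem ⟨q, hQM hq⟩ (Subgroup.mem_subgroupOf.2 hq) ⟨s, hSM hs⟩
      simpa [Subgroup.mem_subgroupOf] using this
    have hQS : Q ≤ (S : Subgroup G) := by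
      have h := S.is_maximal' (hQ2.to_sup_of_normal_left' S.isPGroup' hSQ) le_sup_right
      exact le_sup_left.trans h.le
    refine ⟨S, fun s hs => ?_⟩
    obtain ⟨u, hu, h⟩ := htrans g (s * g) hg fun hm => hg (by
      simpa using mul_mem (inv_mem (hSM hs)) hm)
    have hd : u⁻¹ * s ∈ M ⊓ M.map (MulAut.conj g).toMonoidHom :=
      Subgroup.mem_inf.2 ⟨M.mul_mem (M.inv_mem (hQM hu)) (hSM hs),
        Subgroup.mem_map.2 ⟨_, M.inv_mem h, by simp [mul_assoc]⟩⟩
    obtain ⟨k, hk⟩ := IsPGroup.iff_orderOf.1 S.isPGroup' 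
      ⟨u⁻¹ * s, (S : Subgroup G).mul_mem ((S : Subgroup G).inv_mem (hQS hu)) hs⟩
    rw [← Subgroup.orderOf_coe] at hk
    simp only at hk
    have hodd := (hse.2.2 g hg).of_dvd_nat (Subgroup.orderOf_dvd_natCard _ hd)
    rcases Nat.eq_zero_or_pos k with rfl | hk0
    · rw [pow_zero, orderOf_eq_one_iff, inv_mul_eq_one] at hk
      exact hk ▸ hu
    · exact absurd (hk ▸ hodd) (Nat.not_odd_iff_even.2 (Nat.even_pow.2 ⟨even_two, hk0.ne'⟩))
  · intro g₁ g₂ h₁ h₂
    obtain ⟨u, hu, h⟩ := hex g₁ g₂ h₁ h₂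
    refine ⟨⟨u, hu⟩, h, fun v hv => Subtype.ext ?_⟩
    have e : (M.map (MulAut.conj g₁).toMonoidHom).map (MulAut.conj u).toMonoidHom =
        (M.map (MulAut.conj g₁).toMonoidHom).map (MulAut.conj (v : G)).toMonoidHom :=
      h.trans hv.symm
    rw [conj_conj, conj_conj, conj_eq_conj_iff hN] at e
    have := hreg g₁ (hout _ h₁) _ (mul_mem (inv_mem v.2) hu) (by simpa [mul_assoc] using e)
    exact (inv_mul_eq_one.1 this)

end CfsgLib.BenderUse
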